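import Mathlib
import Groth.Agent.GrassRep.Sheaf
import Groth.Agent.GrassClosed.Ideal

/-! Direct sums of points of Grassmannians. -/

set_option autoImplicit false

universe u

noncomputable section

open TensorProduct Module
open Module.Grassmannian

namespace Groth.Agent.LinkedGrass

open GrassRep GrassClosed

variable {R : Type u} [CommRing R] {M : Type u} [AddCommGroup M] [Module R M] {k n : ℕ}
variable {A C : Type u} [CommRing A] [Algebra R A] [CommRing C] [Algebra R C]

/-- The projections. -/
abbrev pr (i : Fin n) : (Fin n → M) →ₗ[R] M := LinearMap.proj i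

/-- The insertions. -/
abbrev ins (i : Fin n) : M →ₗ[R] (Fin n → M) := LinearMap.single R (fun _ => M) i

theorem pr_ins_bc (i j : Fin n) (x : A ⊗[R] M) :
    (pr (R := R) (M := M) j).baseChange A ((ins i).baseChange A x) = if j = i then x else 0 := by
  rw [← LinearMap.comp_apply, ← LinearMap.baseChange_comp]
  by_cases h : j = i
  · subst h
    rw [if_pos rfl, show (pr j).comp (ins (R := R) (M := M) j) = LinearMap.id from LinearMap.ext fun m => by simp,
      LinearMap.baseChange_id, LinearMap.id_apply]
  · rw [if_neg h, show (pr j).comp (ins (R := R) (M := M) i) = 0 from LinearMap.ext fun m => by simp [h],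
      LinearMap.baseChange_zero, LinearMap.zero_apply]

/-- The quotient map onto the product of the quotients. -/
def quotPi (V : Fin n → G(k, A ⊗[R] M; A)) :
    A ⊗[R] (Fin n → M) →ₗ[A] (Π i, (A ⊗[R] M) ⧸ (V i).toSubmodule) :=
  LinearMap.pi fun i => (V i).toSubmodule.mkQ.comp ((pr i).baseChange A)

theorem quotPi_surjective (V : Fin n → G(k, A ⊗[R] M; A)) : Function.Surjective (quotPi V) := by
  intro q
  choose x hx using fun i => (V i).toSubmodule.mkQ_surjective (q i)
  refine ⟨∑ i, (ins i).baseChange A (x i), funext fun j => ?_⟩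
  simp only [quotPi, LinearMap.pi_apply, LinearMap.comp_apply, map_sum, pr_ins_bc]
  rw [Finset.sum_eq_single j (fun i _ h => by rw [if_neg (Ne.symm h), map_zero])
    (fun h => absurd (Finset.mem_univ j) h), if_pos rfl, hx]

theorem mem_ker_quotPi (V : Fin n → G(k, A ⊗[R] M; A)) (x : A ⊗[R] (Fin n → M)) :
    x ∈ LinearMap.ker (quotPi V) ↔ ∀ i, (pr i).baseChange A x ∈ (V i).toSubmodule := by
  simp [quotPi, funext_iff, Submodule.Quotient.mk_eq_zero]

/-- The direct sum of points. -/
def sumPt (V : Fin n → G(k, A ⊗[R] M; A)) : G(n * k, A ⊗[R] (Fin n → M); A) where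
  toSubmodule := LinearMap.ker (quotPi V)
  finite_quotient := Module.Finite.equiv ((quotPi V).quotKerEquivOfSurjective (quotPi_surjective V)).symm
  projective_quotient :=
    haveI : Module.Projective A (Π i, (A ⊗[R] M) ⧸ (V i).toSubmodule) :=
      Module.Projective.of_equiv (DFinsupp.linearEquivFunOnFintype (R := A) (M := fun i => (A ⊗[R] M) ⧸ (V i).toSubmodule))
    Module.Projective.of_equiv ((quotPi V).quotKerEquivOfSurjective (quotPi_surjective V)).symm
  rankAtStalk_eq p := by
    rw [Module.rankAtStalk_eq_of_equiv ((quotPi V).quotKerEquivOfSurjective (quotPi_surjective V)),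
      Module.rankAtStalk_pi, finsum_eq_sum_of_fintype]
    simp [(V _).rankAtStalk_eq p]

theorem mem_sumPt (V : Fin n → G(k, A ⊗[R] M; A)) (x : A ⊗[R] (Fin n → M)) :
    x ∈ (sumPt V).toSubmodule ↔ ∀ i, (pr i).baseChange A x ∈ (V i).toSubmodule := mem_ker_quotPi V x

theorem eq_of_le {M' : Type u} [AddCommGroup M'] [Module R M'] {K : ℕ} {N N' : G(K, A ⊗[R] M'; A)}
    (h : N.toSubmodule ≤ N'.toSubmodule) : N = N' := by
  have hb : Function.Bijective (Submodule.factor h) := by
    refine Module.bijective_of_surjective_of_rankAtStalk_eq (Submodule.factor_surjective h) fun m _ => ?_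
    rw [N.rankAtStalk_eq, N'.rankAtStalk_eq]
  refine Module.Grassmannian.ext (le_antisymm h fun x hx => ?_)
  refine (Submodule.Quotient.mk_eq_zero _).1 (hb.1 ?_)
  rw [map_zero]
  exact (Submodule.Quotient.mk_eq_zero _).2 hx

theorem bc_inc {M₂ : Type u} [AddCommGroup M₂] [Module R M₂] (v : M →ₗ[R] M₂) (φ : A →ₐ[R] C) (x : A ⊗[R] M) :
    v.baseChange C (inc φ x) = inc φ (v.baseChange A x) := by
  induction x using TensorProduct.induction_on with
  | zero => simp
  | tmul a m => simp [inc_tmul]
  | add x y hx hy => simp only [map_add, hx, hy]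

theorem map_sumPt (φ : A →ₐ[R] C) (V : Fin n → G(k, A ⊗[R] M; A)) :
    Module.Grassmannian.map φ (sumPt V) = sumPt fun i => Module.Grassmannian.map φ (V i) := by
  refine eq_of_le ?_
  rw [map_eq_span, Submodule.span_le]
  rintro _ ⟨x, hx, rfl⟩
  refine (mem_sumPt _ _).2 fun i => ?_
  rw [bc_inc]
  exact inc_mem_map φ _ ((mem_sumPt V x).1 hx i)

/-- The endomorphism linking the `a`-th to the `b`-th member. -/
abbrev link (a b : Fin n) (f : M →ₗ[R] M) : (Fin n → M) →ₗ[R] (Fin n → M) := (ins b).comp (f.comp (pr a))

theorem link_stable_iff (a b : Fin n) (f : M →ₗ[R] M) (V : Fin n → G(k, A ⊗[R] M; A)) :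
    (∀ x ∈ (sumPt V).toSubmodule, (link a b f).baseChange A x ∈ (sumPt V).toSubmodule) ↔
      Submodule.map (f.baseChange A) (V a).toSubmodule ≤ (V b).toSubmodule := by
  simp only [link, mem_sumPt, LinearMap.baseChange_comp, LinearMap.comp_apply, pr_ins_bc, Submodule.map_le_iff_le_comap]
  constructor
  · intro h y hy
    have := h ((ins a).baseChange A y) (fun i => by
      rw [pr_ins_bc]
      split
      · next e => subst e; exact hy
      · exact zero_mem _) b
    rw [if_pos rfl, pr_ins_bc, if_pos rfl] at this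
    exact this
  · intro h x hx i
    split
    · next e => subst e; exact h (hx a)
    · exact zero_mem _

end Groth.Agent.LinkedGrass
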