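import Groth.Agent.LinkedGrass.Exact

/-!
# Chain bases of linked tuples of submodules
-/

set_option autoImplicit false
set_option linter.unusedSectionVars false

namespace Groth.Agent.LinkedGrass

open Module

section Ring

variable {R : Type*} [CommRing R] {E : Type*} [AddCommGroup E] [Module R E] {F G : ℕ → E →ₗ[R] E} {n : ℕ}

/-- Rows of vectors, carried to multiples of each other. -/
def IsChain {ι : Type*} (F G : ℕ → E →ₗ[R] E) (n : ℕ) (v : ι → ℕ → E) (α β : ι → ℕ → R) : Prop :=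
  ∀ t, ∀ i < n, F i (v t i) = α t i • v t (i + 1) ∧ G i (v t (i + 1)) = β t i • v t i

variable {ι : Type*} {v : ι → ℕ → E} {α β : ι → ℕ → R}

/-- The span in place `i`. -/
abbrev spanAt (R : Type*) [CommRing R] {E : Type*} [AddCommGroup E] [Module R E] {ι : Type*} (v : ι → ℕ → E)
    (i : ℕ) : Submodule R E :=
  Submodule.span R (Set.range fun t => v t i)

theorem IsChain.F_mem (h : IsChain F G n v α β) {i : ℕ} (hi : i < n) {x : E} (hx : x ∈ spanAt R v i) :
    F i x ∈ spanAt R v (i + 1) := by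
  have : (spanAt R v i).map (F i) ≤ spanAt R v (i + 1) := by
    rw [Submodule.map_span_le]
    rintro _ ⟨t, rfl⟩
    rw [(h t i hi).1]
    exact Submodule.smul_mem _ _ (Submodule.subset_span ⟨t, rfl⟩)
  exact this ⟨x, hx, rfl⟩

theorem IsChain.G_mem (h : IsChain F G n v α β) {i : ℕ} (hi : i < n) {x : E} (hx : x ∈ spanAt R v (i + 1)) :
    G i x ∈ spanAt R v i := by
  have : (spanAt R v (i + 1)).map (G i) ≤ spanAt R v i := by
    rw [Submodule.map_span_le]
    rintro _ ⟨t, rfl⟩
    rw [(h t i hi).2]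
    exact Submodule.smul_mem _ _ (Submodule.subset_span ⟨t, rfl⟩)
  exact this ⟨x, hx, rfl⟩

theorem IsChain.map {R' : Type*} [CommRing R'] {E' : Type*} [AddCommGroup E'] [Module R' E'] {F' G' : ℕ → E' →ₗ[R'] E'}
    (φ : R → R') (T : E → E') (hF : ∀ i x, T (F i x) = F' i (T x)) (hG : ∀ i x, T (G i x) = G' i (T x))
    (hT : ∀ a x, T (a • x) = φ a • T x) (h : IsChain F G n v α β) :
    IsChain F' G' n (fun t i => T (v t i)) (fun t i => φ (α t i)) (fun t i => φ (β t i)) := fun t i hi =>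
  ⟨by rw [← hF, (h t i hi).1, hT], by rw [← hG, (h t i hi).2, hT]⟩

theorem isChain_path {s : R} (hfg : ∀ i < n, ∀ x, F i (G i x) = s • x) (hgf : ∀ i < n, ∀ x, G i (F i x) = s • x)
    (J : ι → ℕ) (c : ι → E) :
    IsChain F G n (fun t i => path F G (J t) i (c t)) (fun t i => if J t ≤ i then 1 else s)
      (fun t i => if J t ≤ i then s else 1) := by
  intro t i hi
  dsimp only
  by_cases h : J t ≤ i
  · rw [if_pos h, if_pos h, one_smul]
    exact ⟨F_path_of_le F G h _, G_path_of_le (hgf i hi) h _⟩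
  · rw [if_neg h, if_neg h, one_smul]
    exact ⟨F_path_of_lt (hfg i hi) (lt_of_not_ge h) _, G_path_of_lt F G (lt_of_not_ge h) _⟩

variable (F G) in
/-- A row made of two halves, meeting at the edge `i`. -/
def brk (i : ℕ) (x y : E) (l : ℕ) : E := if l ≤ i then path F G i l x else path F G (i + 1) l y

theorem brk_apply {s a b : R} (hfg : ∀ i < n, ∀ x, F i (G i x) = s • x) (hgf : ∀ i < n, ∀ x, G i (F i x) = s • x)
    {i : ℕ} {x y : E} (hx : F i x = a • y) (hy : G i y = b • x) {l : ℕ} (hl : l < n) :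
    F l (brk F G i x y l) = (if l < i then s else if l = i then a else 1) • brk F G i x y (l + 1) ∧
      G l (brk F G i x y (l + 1)) = (if l < i then 1 else if l = i then b else s) • brk F G i x y l := by
  rcases lt_trichotomy l i with h | rfl | h
  · simp only [brk, if_pos h, if_pos h.le, if_pos (show l + 1 ≤ i from h), one_smul]
    exact ⟨F_path_of_lt (hfg l hl) h _, G_path_of_lt F G h _⟩
  · simp only [brk, lt_irrefl, if_false, le_refl, if_true, show ¬ l + 1 ≤ l by omega, path_self, LinearMap.id_apply]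
    exact ⟨hx, hy⟩
  · simp only [brk, if_neg h.not_gt, if_neg h.ne', if_neg h.not_ge, if_neg (show ¬ l + 1 ≤ i by omega), one_smul]
    exact ⟨F_path_of_le F G h _, G_path_of_le (hgf l hl) h _⟩

end Ring

section Field

variable {k : Type*} [Field k] {E : Type*} [AddCommGroup E] [Module k E] {F G : ℕ → E →ₗ[k] E} {n : ℕ}
  {ι : Type*} [Fintype ι] {v : ι → ℕ → E} {α β : ι → ℕ → k}

theorem IsChain.ker_le (h : IsChain F G n v α β) {i : ℕ} (hi : i < n)
    (hind : LinearIndependent k fun t => v t i) (hne : ∀ t, α t i ≠ 0 ∨ β t i ≠ 0) :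
    LinearMap.ker (G i) ⊓ spanAt k v (i + 1) ≤ (spanAt k v i).map (F i) := by
  rintro x ⟨hx, hx'⟩
  obtain ⟨c, rfl⟩ := (Submodule.mem_span_range_iff_exists_fun k).mp hx'
  have h0 : ∀ t, c t * β t i = 0 := Fintype.linearIndependent_iff.mp hind _ (by
    have e : G i (∑ t, c t • v t (i + 1)) = 0 := hx
    simpa only [map_sum, map_smul, (h _ i hi).2, smul_smul] using e)
  refine sum_mem fun t _ => ?_
  by_cases hc : c t = 0
  · rw [hc, zero_smul]; exact zero_mem _
  · have hb : β t i = 0 := (mul_eq_zero.mp (h0 t)).resolve_left hc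
    refine Submodule.smul_mem _ _ ⟨(α t i)⁻¹ • v t i, Submodule.smul_mem _ _ (Submodule.subset_span ⟨t, rfl⟩), ?_⟩
    rw [map_smul, (h t i hi).1, smul_smul, inv_mul_cancel₀ ((hne t).resolve_right (fun h' => h' hb)), one_smul]

theorem IsChain.ker_le' (h : IsChain F G n v α β) {i : ℕ} (hi : i < n)
    (hind : LinearIndependent k fun t => v t (i + 1)) (hne : ∀ t, α t i ≠ 0 ∨ β t i ≠ 0) :
    LinearMap.ker (F i) ⊓ spanAt k v i ≤ (spanAt k v (i + 1)).map (G i) := by
  rintro x ⟨hx, hx'⟩
  obtain ⟨c, rfl⟩ := (Submodule.mem_span_range_iff_exists_fun k).mp hx'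
  have h0 : ∀ t, c t * α t i = 0 := Fintype.linearIndependent_iff.mp hind _ (by
    have e : F i (∑ t, c t • v t i) = 0 := hx
    simpa only [map_sum, map_smul, (h _ i hi).1, smul_smul] using e)
  refine sum_mem fun t _ => ?_
  by_cases hc : c t = 0
  · rw [hc, zero_smul]; exact zero_mem _
  · have ha : α t i = 0 := (mul_eq_zero.mp (h0 t)).resolve_left hc
    refine Submodule.smul_mem _ _
      ⟨(β t i)⁻¹ • v t (i + 1), Submodule.smul_mem _ _ (Submodule.subset_span ⟨t, rfl⟩), ?_⟩
    rw [map_smul, (h t i hi).2, smul_smul, inv_mul_cancel₀ ((hne t).resolve_left (fun h' => h' ha)), one_smul]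

theorem IsChain.finrank_map [DecidableEq k] (h : IsChain F G n v α β) {i : ℕ} (hi : i < n)
    (hind : LinearIndependent k fun t => v t (i + 1)) :
    finrank k ((spanAt k v i).map (F i)) = (Finset.univ.filter fun t => α t i ≠ 0).card := by
  have e : (spanAt k v i).map (F i) =
      Submodule.span k (Set.range fun t : {t // α t i ≠ 0} => v t.1 (i + 1)) := by
    refine le_antisymm ?_ ?_
    · rw [Submodule.map_span_le]
      rintro _ ⟨t, rfl⟩
      rw [(h t i hi).1]
      by_cases ht : α t i = 0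
      · rw [ht, zero_smul]; exact zero_mem _
      · exact Submodule.smul_mem _ _ (Submodule.subset_span ⟨⟨t, ht⟩, rfl⟩)
    · rw [Submodule.span_le]
      rintro _ ⟨⟨t, ht⟩, rfl⟩
      refine ⟨(α t i)⁻¹ • v t i, Submodule.smul_mem _ _ (Submodule.subset_span ⟨t, rfl⟩), ?_⟩
      rw [map_smul, (h t i hi).1, smul_smul, inv_mul_cancel₀ ht, one_smul]
  rw [e, finrank_span_eq_card (R := k) (b := fun t : {t // α t i ≠ 0} => v t.1 (i + 1))
    (hind.comp _ Subtype.val_injective), Fintype.card_subtype]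

/-- Every point has a chain basis, with rows broken where exactness fails. -/
theorem exists_normalForm [FiniteDimensional k E] {r : ℕ} (V : ℕ → Submodule k E)
    (hV : ∀ i ≤ n, finrank k (V i) = r)
    (hfg : ∀ i < n, ∀ x, F i (G i x) = 0) (hgf : ∀ i < n, ∀ x, G i (F i x) = 0)
    (hkerF : ∀ i < n, ∀ x, F i x = 0 → ∃ w, G i w = x) (hkerG : ∀ i < n, ∀ y, G i y = 0 → ∃ u, F i u = y)
    (hIII : ∀ i, i + 1 < n → ∀ x, F (i + 1) (F i x) = 0 → F i x = 0)
    (hf : ∀ i < n, ∀ x ∈ V i, F i x ∈ V (i + 1)) (hg : ∀ i < n, ∀ x ∈ V (i + 1), G i x ∈ V i) :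
    ∃ (κ μ : Type) (_ : Fintype κ) (_ : Fintype μ) (J : κ → ℕ) (c : κ → E) (I : μ → ℕ) (x y u w : μ → E),
      Fintype.card (κ ⊕ μ) = r ∧
      (∀ m, I m < n ∧ F (I m) (x m) = 0 ∧ G (I m) (y m) = 0 ∧ F (I m) (u m) = y m ∧ G (I m) (w m) = x m) ∧
      ∀ l ≤ n, V l = spanAt k (Sum.elim (fun t i => path F G (J t) i (c t)) fun m i => brk F G (I m) (x m) (y m) i) l ∧
        LinearIndependent k fun z : κ ⊕ μ =>
          Sum.elim (fun t i => path F G (J t) i (c t)) (fun m i => brk F G (I m) (x m) (y m) i) z l := by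
  classical
  let P : ℕ → Submodule k E := fun i => if i = 0 then ⊥ else (V (i - 1)).map (F (i - 1))
  let Q : ℕ → Submodule k E := fun i => if i < n then (V (i + 1)).map (G i) else ⊥
  let K : ℕ → Submodule k E := fun i => if i = 0 then ⊥ else LinearMap.ker (G (i - 1)) ⊓ V i
  let L : ℕ → Submodule k E := fun i => if i < n then LinearMap.ker (F i) ⊓ V i else ⊥
  have hP : ∀ i, P (i + 1) = (V i).map (F i) := fun i => by simp [P]
  have hK : ∀ i, K (i + 1) = LinearMap.ker (G i) ⊓ V (i + 1) := fun i => by simp [K]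
  have hQ : ∀ i < n, Q i = (V (i + 1)).map (G i) := fun i hi => by simp [Q, hi]
  have hL : ∀ i < n, L i = LinearMap.ker (F i) ⊓ V i := fun i hi => by simp [L, hi]
  have hPK : ∀ i ≤ n, P i ≤ K i := by
    rintro (_ | i) hi
    · simp [P]
    · rw [hP, hK]
      rintro _ ⟨x, hx, rfl⟩
      exact ⟨hgf i hi x, hf i hi x hx⟩
  have hQL : ∀ i ≤ n, Q i ≤ L i := fun i hi => by
    by_cases h : i < n
    · rw [hQ i h, hL i h]
      rintro _ ⟨x, hx, rfl⟩
      exact ⟨hfg i h x, hg i h x hx⟩
    · simp [Q, h]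
  have hKV : ∀ i, K i ≤ V i := by rintro (_ | i) <;> simp [K]
  have hLV : ∀ i, L i ≤ V i := fun i => by by_cases h : i < n <;> simp [L, h]
  have hdis : ∀ i ≤ n, K i ⊓ L i = ⊥ := by
    rintro (_ | i) hi
    · simp [K]
    by_cases h : i + 1 < n
    · rw [hK, hL _ h, eq_bot_iff]
      rintro z ⟨⟨hz, -⟩, ⟨hz', -⟩⟩
      obtain ⟨u, rfl⟩ := hkerG i hi z hz
      exact (Submodule.mem_bot k).mpr (hIII i h u hz')
    · simp [L, h]
  have rnG : ∀ i < n, finrank k (Q i) + finrank k (K (i + 1)) = r := fun i hi => by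
    rw [hQ i hi, hK, finrank_map_add_finrank_ker_inf, hV _ hi]
  have rnF : ∀ i < n, finrank k (P (i + 1)) + finrank k (L i) = r := fun i hi => by
    rw [hP, hL i hi, finrank_map_add_finrank_ker_inf, hV _ hi.le]
  have hX : ∀ i, ∃ X : Submodule k E, i < n →
      X ≤ L i ∧ X ⊔ Q i = L i ∧ finrank k X + finrank k (Q i) = finrank k (L i) := by
    intro i
    obtain ⟨C, hC⟩ := Submodule.exists_isCompl (Q i)
    refine ⟨C ⊓ L i, fun hi => ?_⟩
    have h1 : C ⊓ L i ⊔ Q i = L i := by
      rw [sup_comm, ← sup_inf_assoc_of_le C (hQL i hi.le), hC.sup_eq_top, top_inf_eq]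
    have h2 := Submodule.finrank_sup_add_finrank_inf_eq (C ⊓ L i) (Q i)
    rw [h1, eq_bot_iff.mpr (show C ⊓ L i ⊓ Q i ≤ ⊥ by
      rw [inf_right_comm]; exact inf_le_left.trans hC.symm.disjoint.le_bot), finrank_bot] at h2
    exact ⟨inf_le_right, h1, by omega⟩
  have hY : ∀ i, ∃ Y : Submodule k E, i < n →
      Y ≤ K (i + 1) ∧ Y ⊔ P (i + 1) = K (i + 1) ∧ finrank k Y + finrank k (P (i + 1)) = finrank k (K (i + 1)) := by
    intro i
    obtain ⟨C, hC⟩ := Submodule.exists_isCompl (P (i + 1))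
    refine ⟨C ⊓ K (i + 1), fun hi => ?_⟩
    have h1 : C ⊓ K (i + 1) ⊔ P (i + 1) = K (i + 1) := by
      rw [sup_comm, ← sup_inf_assoc_of_le C (hPK (i + 1) hi), hC.sup_eq_top, top_inf_eq]
    have h2 := Submodule.finrank_sup_add_finrank_inf_eq (C ⊓ K (i + 1)) (P (i + 1))
    rw [h1, eq_bot_iff.mpr (show C ⊓ K (i + 1) ⊓ P (i + 1) ≤ ⊥ by
      rw [inf_right_comm]; exact inf_le_left.trans hC.symm.disjoint.le_bot), finrank_bot] at h2
    exact ⟨inf_le_right, h1, by omega⟩
  have hC : ∀ l, ∃ C : Submodule k E, l ≤ n →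
      C ≤ V l ∧ C ⊔ (K l ⊔ L l) = V l ∧ finrank k C + finrank k (K l) + finrank k (L l) = r := by
    intro l
    obtain ⟨C, hC⟩ := Submodule.exists_isCompl (K l ⊔ L l)
    refine ⟨C ⊓ V l, fun hl => ?_⟩
    have h1 : C ⊓ V l ⊔ (K l ⊔ L l) = V l := by
      rw [sup_comm, ← sup_inf_assoc_of_le C (sup_le (hKV l) (hLV l)), hC.sup_eq_top, top_inf_eq]
    have h2 := Submodule.finrank_sup_add_finrank_inf_eq (C ⊓ V l) (K l ⊔ L l)
    rw [h1, eq_bot_iff.mpr (show C ⊓ V l ⊓ (K l ⊔ L l) ≤ ⊥ by
      rw [inf_right_comm]; exact inf_le_left.trans hC.symm.disjoint.le_bot), finrank_bot, hV l hl] at h2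
    have h3 := Submodule.finrank_sup_add_finrank_inf_eq (K l) (L l)
    rw [hdis l hl, finrank_bot] at h3
    exact ⟨inf_le_right, h1, by omega⟩
  choose X hX using hX
  choose Y hY using hY
  choose C hC using hC
  have hXY : ∀ i < n, finrank k (Y i) = finrank k (X i) := fun i hi => by
    have := rnG i hi; have := rnF i hi; have := (hX i hi).2.2; have := (hY i hi).2.2
    omega
  let bC := fun l : Fin (n + 1) => Module.finBasis k (C l)
  let bX := fun i : Fin n => Module.finBasis k (X i)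
  let bY := fun i : Fin n => (Module.finBasis k (Y i)).reindex (finCongr (hXY i i.2))
  let κ := Σ l : Fin (n + 1), Fin (finrank k (C l))
  let μ := Σ i : Fin n, Fin (finrank k (X i))
  have hx : ∀ m : μ, F m.1 (bX m.1 m.2).1 = 0 := fun m => by
    have := (hX m.1 m.1.2).1 (bX m.1 m.2).2
    rw [hL _ m.1.2] at this
    exact this.1
  have hy : ∀ m : μ, G m.1 (bY m.1 m.2).1 = 0 := fun m => by
    have := (hY m.1 m.1.2).1 (bY m.1 m.2).2
    rw [hK] at this
    exact this.1
  choose u hu using fun m : μ => hkerG m.1 m.1.2 _ (hy m)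
  choose w hw using fun m : μ => hkerF m.1 m.1.2 _ (hx m)
  have hcard : Fintype.card (κ ⊕ μ) = r := by
    simp only [κ, μ, Fintype.card_sum, Fintype.card_sigma, Fintype.card_fin]
    rw [Fin.sum_univ_eq_sum_range (fun l => finrank k (C l)), Fin.sum_univ_eq_sum_range (fun i => finrank k (X i))]
    have key : ∀ m ≤ n, (∑ l ∈ Finset.range m, finrank k (C l)) + (∑ i ∈ Finset.range m, finrank k (X i)) +
        finrank k (L m) + finrank k (C m) = r ∨ m = 0 := fun m _ => by
      induction m with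
      | zero => exact Or.inr rfl
      | succ m ih =>
        left
        have hm : m < n := by omega
        have e1 := (hX m hm).2.2
        have e2 := (hC m hm.le).2.2
        have e3 := (hC (m + 1) hm).2.2
        have e4 := rnG m hm
        have e5 := rnF m hm
        rw [Finset.sum_range_succ, Finset.sum_range_succ]
        rcases ih hm.le with h | rfl
        · omega
        · have : K 0 = ⊥ := by simp [K]
          rw [this, finrank_bot] at e2
          simp only [Finset.range_zero, Finset.sum_empty]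
          omega
    have hLn : L n = ⊥ := by simp [L]
    rw [Finset.sum_range_succ]
    rcases key n le_rfl with h | h
    · rw [hLn, finrank_bot] at h
      omega
    · subst h
      have e2 := (hC 0 le_rfl).2.2
      rw [hLn, show K 0 = ⊥ by simp [K], finrank_bot] at e2
      simp only [Finset.range_zero, Finset.sum_empty]
      omega
  refine ⟨κ, μ, inferInstance, inferInstance, fun t => t.1, fun t => (bC t.1 t.2).1, fun m => m.1,
    fun m => (bX m.1 m.2).1, fun m => (bY m.1 m.2).1, u, w, hcard, fun m => ⟨m.1.2, hx m, hy m, hu m, hw m⟩, ?_⟩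
  set v : κ ⊕ μ → ℕ → E := Sum.elim (fun t i => path F G t.1 i (bC t.1 t.2).1)
    fun m i => brk F G m.1 (bX m.1 m.2).1 (bY m.1 m.2).1 i with hv
  have hchain : IsChain F G n v
      (Sum.elim (fun t i => if (t.1 : ℕ) ≤ i then 1 else 0) fun m l => if l < (m.1 : ℕ) then 0 else if l = m.1 then 0 else 1)
      (Sum.elim (fun t i => if (t.1 : ℕ) ≤ i then 0 else 1) fun m l => if l < (m.1 : ℕ) then 1 else if l = m.1 then 0 else 0) := by
    have hfg' : ∀ i < n, ∀ x, F i (G i x) = (0 : k) • x := fun i hi x => by rw [hfg i hi, zero_smul]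
    have hgf' : ∀ i < n, ∀ x, G i (F i x) = (0 : k) • x := fun i hi x => by rw [hgf i hi, zero_smul]
    rintro (t | m) l hl
    · exact isChain_path hfg' hgf' (fun t : κ => (t.1 : ℕ)) (fun t => (bC t.1 t.2).1) t l hl
    · exact brk_apply (s := 0) (a := 0) (b := 0) hfg' hgf' (by rw [hx m, zero_smul]) (by rw [hy m, zero_smul]) hl
  set S := spanAt k v
  have hCS : ∀ l ≤ n, C l ≤ S l := by
    intro l hl z hz
    have h2 := congrArg Subtype.val ((bC ⟨l, by omega⟩).sum_repr ⟨z, hz⟩)
    simp only [Submodule.coe_sum, Submodule.coe_smul] at h2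
    rw [← h2]
    exact sum_mem fun t _ => Submodule.smul_mem _ _
      (Submodule.subset_span ⟨Sum.inl ⟨⟨l, by omega⟩, t⟩, by simp [hv, path_self]⟩)
  have hXS : ∀ i < n, X i ≤ S i := by
    intro i hi z hz
    have h2 := congrArg Subtype.val ((bX ⟨i, hi⟩).sum_repr ⟨z, hz⟩)
    simp only [Submodule.coe_sum, Submodule.coe_smul] at h2
    rw [← h2]
    exact sum_mem fun t _ => Submodule.smul_mem _ _
      (Submodule.subset_span ⟨Sum.inr ⟨⟨i, hi⟩, t⟩, by simp [hv, brk, path_self]⟩)
  have hYS : ∀ i < n, Y i ≤ S (i + 1) := by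
    intro i hi z hz
    have h2 := congrArg Subtype.val ((bY ⟨i, hi⟩).sum_repr ⟨z, hz⟩)
    simp only [Submodule.coe_sum, Submodule.coe_smul] at h2
    rw [← h2]
    exact sum_mem fun t _ => Submodule.smul_mem _ _
      (Submodule.subset_span ⟨Sum.inr ⟨⟨i, hi⟩, t⟩, by simp [hv, brk, path_self]⟩)
  have hKS : ∀ l ≤ n, K l ≤ S l := by
    intro l
    induction l with
    | zero => simp [K]
    | succ l ih =>
      intro hl
      have hln : l < n := by omega
      rw [← (hY l hln).2.1, sup_le_iff]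
      refine ⟨hYS l hln, ?_⟩
      rw [hP, ← (hC l hln.le).2.1, Submodule.map_sup, Submodule.map_sup, sup_le_iff, sup_le_iff]
      refine ⟨?_, ?_, ?_⟩ <;> rintro _ ⟨z, hz, rfl⟩
      · exact hchain.F_mem hln (hCS l hln.le hz)
      · exact hchain.F_mem hln (ih hln.le hz)
      · rw [hL l hln] at hz
        rw [show F l z = 0 from hz.1]
        exact zero_mem _
  have hLS : ∀ t l, l + t = n → L l ≤ S l := by
    intro t
    induction t with
    | zero => intro l hl; simp [L, show ¬ l < n by omega]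
    | succ t ih =>
      intro l hl
      have hln : l < n := by omega
      rw [← (hX l hln).2.1, sup_le_iff]
      refine ⟨hXS l hln, ?_⟩
      rw [hQ l hln, ← (hC (l + 1) hln).2.1, Submodule.map_sup, Submodule.map_sup, sup_le_iff, sup_le_iff]
      refine ⟨?_, ?_, ?_⟩ <;> rintro _ ⟨z, hz, rfl⟩
      · exact hchain.G_mem hln (hCS _ hln hz)
      · rw [hK] at hz
        rw [show G l z = 0 from hz.1]
        exact zero_mem _
      · exact hchain.G_mem hln (ih (l + 1) (by omega) hz)
  intro l hl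
  have hVS : V l ≤ S l := by
    rw [← (hC l hl).2.1]
    exact sup_le (hCS l hl) (sup_le (hKS l hl) (hLS (n - l) l (by omega)))
  have hmem : ∀ z, v z l ∈ V l := by
    rintro (t | m)
    · exact path_mem hf hg (Nat.lt_succ_iff.mp t.1.2) hl ((hC t.1 (Nat.lt_succ_iff.mp t.1.2)).1 (bC t.1 t.2).2)
    · simp only [hv, Sum.elim_inr, brk]
      by_cases h : l ≤ m.1
      · rw [if_pos h]
        exact path_mem hf hg m.1.2.le hl (hLV _ ((hX m.1 m.1.2).1 (bX m.1 m.2).2))
      · rw [if_neg h]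
        exact path_mem hf hg m.1.2 hl (hKV _ ((hY m.1 m.1.2).1 (bY m.1 m.2).2))
  have heq : V l = S l := le_antisymm hVS (Submodule.span_le.mpr (by rintro _ ⟨z, rfl⟩; exact hmem z))
  refine ⟨heq, ?_⟩
  rw [linearIndependent_iff_card_le_finrank_span (R := k)]
  show Fintype.card (κ ⊕ μ) ≤ finrank k (S l)
  rw [← heq, hV l hl]
  exact hcard.le

end Field

end Groth.Agent.LinkedGrass
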