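import Groth.Agent.LinkedGrass.GenericChart
import Groth.Agent.UnibranchEtale.Components

/-!
# Dimension of the components of the linked Grassmannian
-/

set_option autoImplicit false
set_option backward.isDefEq.respectTransparency false
set_option linter.style.haveILetI false

universe u

noncomputable section

open CategoryTheory AlgebraicGeometry TensorProduct Module

namespace Groth.Agent.LinkedGrass

open W4c1limliniiii GrassClosed

theorem spec_kStr {k : Type u} [Field k] {Y : Scheme.{u}} (f : Y ⟶ Spec (CommRingCat.of k)) (x : Y) :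
    Spec.map (CommRingCat.ofHom (WeilLib.kStr f x)) = Y.fromSpecResidueField x ≫ f := by
  have h1 : CommRingCat.ofHom (WeilLib.kStr f x) =
      (Scheme.ΓSpecIso (CommRingCat.of k)).inv ≫ f.appTop ≫ Y.presheaf.germ ⊤ x trivial ≫ Y.residue x := by
    apply CommRingCat.hom_ext
    have h2 : f.appLE ⊤ ⊤ le_top = f.appTop := f.appLE_eq_app
    simp only [WeilLib.kStr, WeilLib.secStr, CommRingCat.hom_comp, Scheme.evaluation, h2]
    rfl
  rw [h1, Spec.map_comp, Spec.map_comp, Spec.map_comp, ← Scheme.fromSpecStalk_toSpecΓ,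
    Scheme.fromSpecResidueField]
  simp only [Category.assoc]
  congr 2
  rw [← Scheme.toSpecΓ_naturality_assoc, ← SpecMap_ΓSpecIso_hom, ← Spec.map_comp, Iso.inv_hom_id, Spec.map_id,
    Category.comp_id]

variable {k : Type u} [Field k] {d r n : ℕ} {X : Over (Spec (CommRingCat.of k))}
  {f g : Fin n → ((Fin d → k) →ₗ[k] (Fin d → k))}
  (e : ∀ A : CommAlgCat.{u} k, (SpA A ⟶ X) ≃ LGPoints k d r n f g A)
  (he : ∀ (A B : CommAlgCat.{u} k) (φ : A ⟶ B) (x : SpA A ⟶ X) (x' : SpA B ⟶ X),
    x'.left = Spec.map (CommRingCat.ofHom φ.hom.toRingHom) ≫ x.left →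
      ∀ i, (e B x').1 i = Module.Grassmannian.map φ.hom ((e A x).1 i))

include he in
theorem dim_component (hrd : r < d) {s : k}
    (hI : ∀ i, (f i).comp (g i) = s • LinearMap.id ∧ (g i).comp (f i) = s • LinearMap.id)
    (hII : ∀ i, d ≤ finrank k (LinearMap.range (f i)) + finrank k (LinearMap.range (g i)))
    (hIII : ∀ i j : Fin n, i.val + 1 = j.val → LinearMap.range (f i) ⊓ LinearMap.ker (f j) = ⊥)
    {Z : Set X.left} (hZ : Z ∈ irreducibleComponents X.left) :
    topologicalKrullDim Z = ((r * (d - r) : ℕ) : WithBot ℕ∞) := by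
  haveI := locallyOfFinitePresentation e he
  haveI : LocallyOfFiniteType X.hom := inferInstance
  obtain ⟨η, hη, hmax⟩ := UnibranchEtale.exists_generic hZ
  obtain ⟨m, hm, hh⟩ := WeilLib.exists_height_eq_trd X.hom η
  letI : Algebra k (X.left.residueField η) := (WeilLib.kStr X.hom η).toAlgebra
  let y : SpA (CommAlgCat.of k (X.left.residueField η)) ⟶ X :=
    Over.homMk (X.left.fromSpecResidueField η) (spec_kStr X.hom η).symm
  have hy : IsGenericPt y := by
    intro L _ _ w hw
    rw [show y.left (IsLocalRing.closedPoint (X.left.residueField η)) = η from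
      Scheme.fromSpecResidueField_apply η _] at hw
    obtain ⟨a, ha⟩ := exists_residue_fac w.left (hmax _ hw)
    obtain ⟨φ, hφ⟩ := exists_algHom y w (Spec.map a) ha
    exact ⟨φ.hom, Over.OverMorphism.ext (ha.symm.trans (congrArg (fun q => q ≫ y.left) hφ.symm))⟩
  have hs0 : algebraMap k (X.left.residueField η) s = 0 → ∀ i, (f i).comp (g i) = 0 ∧ (g i).comp (f i) = 0 := by
    intro h i
    simpa only [(map_eq_zero _).mp h, zero_smul] using hI i
  have hex := exF_of_isGenericPt e he hrd hI (y := y) (hy := hy)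
    (fun h i hi z hz => by
      simp only [extMap, dif_pos hi] at hz ⊢
      exact exists_pre_of_ker_le (ker_le_range (hs0 h ⟨i, hi⟩).1 (by have := hII ⟨i, hi⟩; omega)) z hz)
    (fun h i hi z hz => by
      simp only [extMap, dif_pos hi] at hz ⊢
      exact exists_pre_of_ker_le (ker_le_range (hs0 h ⟨i, hi⟩).2 (hII ⟨i, hi⟩)) z hz)
    (fun i hi z hz => by
      simp only [extMap, dif_pos (show i < n by omega), dif_pos hi] at hz ⊢
      exact bc_eq_zero (hIII ⟨i, by omega⟩ ⟨i + 1, hi⟩ rfl) z hz)
  have h := trdeg_of_isGenericPt e he hrd hI hIII y hy hex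
  have hm' : (m : Cardinal.{u}) = ((r * (d - r) : ℕ) : Cardinal.{u}) := hm.symm.trans h
  rw [← hη.def, BMCoh.topologicalKrullDim_closure_singleton, hh, Nat.cast_injective hm']
  rfl

end Groth.Agent.LinkedGrass
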