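import Groth.Agent.LinkedGrass.Nhd
import Mathlib.Algebra.Polynomial.Roots
import Mathlib.FieldTheory.IsAlgClosed.Basic

/-!
# Non-exact points are limits of exact points of two types
-/

set_option autoImplicit false
set_option backward.isDefEq.respectTransparency false
set_option linter.style.haveILetI false

universe u

noncomputable section

open CategoryTheory AlgebraicGeometry TensorProduct Module Polynomial

namespace Groth.Agent.LinkedGrass

open W4c1limliniiii GrassClosed

variable {k : Type u} [Field k] {X : Over (Spec (CommRingCat.of k))} {d r n : ℕ}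
  {f g : Fin n → ((Fin d → k) →ₗ[k] (Fin d → k))}

theorem bc_ker {h h' : (Fin d → k) →ₗ[k] (Fin d → k)} (hh : h'.comp h = 0)
    (hrk : d ≤ finrank k (LinearMap.range h) + finrank k (LinearMap.range h')) (y : k ⊗[k] (Fin d → k))
    (hy : h'.baseChange k y = 0) : ∃ u, h.baseChange k u = y := by
  have e : ∀ (l : (Fin d → k) →ₗ[k] (Fin d → k)) (z : k ⊗[k] (Fin d → k)),
      TensorProduct.lid k _ (l.baseChange k z) = l (TensorProduct.lid k _ z) := fun l z => by
    induction z using TensorProduct.induction_on with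
    | zero => simp
    | tmul a v => simp
    | add y z hy hz => simp [hy, hz]
  have heq : LinearMap.range h = LinearMap.ker h' := by
    refine Submodule.eq_of_le_of_finrank_le (LinearMap.range_le_ker_iff.mpr hh) ?_
    have := h'.finrank_range_add_finrank_ker
    rw [Module.finrank_fin_fun] at this
    omega
  have h1 : TensorProduct.lid k _ y ∈ LinearMap.range h := by
    rw [heq, LinearMap.mem_ker, ← e, hy, map_zero]
  obtain ⟨u, hu⟩ := h1
  exact ⟨(TensorProduct.lid k _).symm u, (TensorProduct.lid k _).injective (by rw [e, LinearEquiv.apply_symm_apply, hu])⟩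

variable (e : ∀ A : CommAlgCat.{u} k, (SpA A ⟶ X) ≃ LGPoints k d r n f g A)
  (he : ∀ (A B : CommAlgCat.{u} k) (φ : A ⟶ B) (x : SpA A ⟶ X) (x' : SpA B ⟶ X),
    x'.left = Spec.map (CommRingCat.ofHom φ.hom.toRingHom) ≫ x.left →
      ∀ i, (e B x').1 i = Module.Grassmannian.map φ.hom ((e A x).1 i))

/-- Two different kinds of exact points near a non-exact one. -/
def TwoLimits (x : KPt X) : Prop :=
  ∃ a : Bool → Fin n → ℕ, a true ≠ a false ∧
    ∀ σ, ∀ O : X.left.Opens, x.base ∈ O → ∃ y : KPt X, y.base ∈ O ∧ Ex e y ∧ vec e y = a σ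

include he in
set_option maxHeartbeats 1600000 in
theorem twoLimits_of_not_ex [IsAlgClosed k] (hrd : r < d) {s : k}
    (hI : ∀ i, (f i).comp (g i) = s • LinearMap.id ∧ (g i).comp (f i) = s • LinearMap.id)
    (hII : ∀ i, d ≤ finrank k (LinearMap.range (f i)) + finrank k (LinearMap.range (g i)))
    (hIII : ∀ i j : Fin n, i.val + 1 = j.val → LinearMap.range (f i) ⊓ LinearMap.ker (f j) = ⊥)
    (x : KPt X) (hx : ¬ Ex e x) : TwoLimits e x := by
  classical
  haveI : FiniteDimensional k (k ⊗[k] (Fin d → k)) :=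
    Module.Finite.of_basis ((Pi.basisFun k (Fin d)).baseChange k)
  by_cases hs : s = 0
  swap
  · exfalso
    refine hx ((ex_iff e x).mpr fun i hi => ⟨?_, ?_⟩)
    · rintro z ⟨hz, -⟩
      have h0 := extMap_comp f g (fun i => (hI i).1) k i hi z
      rw [show extMap g k i z = 0 from hz, map_zero] at h0
      rw [(smul_eq_zero.mp h0.symm).resolve_left hs]
      exact zero_mem _
    · rintro z ⟨hz, -⟩
      have h0 := extMap_comp g f (fun i => (hI i).2) k i hi z
      rw [show extMap f k i z = 0 from hz, map_zero] at h0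
      rw [(smul_eq_zero.mp h0.symm).resolve_left hs]
      exact zero_mem _
  subst hs
  have hfg : ∀ (R : Type u) [CommRing R] [Algebra k R], ∀ i < n, ∀ z,
      extMap f R i (extMap g R i z) = (0 : R) • z := fun R _ _ i hi z => by
    rw [extMap_comp f g (fun i => (hI i).1) R i hi z, map_zero]
  have hgf : ∀ (R : Type u) [CommRing R] [Algebra k R], ∀ i < n, ∀ z,
      extMap g R i (extMap f R i z) = (0 : R) • z := fun R _ _ i hi z => by
    rw [extMap_comp g f (fun i => (hI i).2) R i hi z, map_zero]
  have hfg0 : ∀ i, (f i).comp (g i) = 0 ∧ (g i).comp (f i) = 0 := fun i => by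
    simpa only [zero_smul] using hI i
  obtain ⟨κ, μ, _, _, J, c, I, x₀, y₀, u, w, hcard, hm, hV⟩ :=
    exists_normalForm (F := extMap f k) (G := extMap g k) (mem' e x) (fun i hi => finrank_mem' e hrd x hi)
      (fun i hi z => by rw [hfg k i hi, zero_smul]) (fun i hi z => by rw [hgf k i hi, zero_smul])
      (fun i hi z hz => by
        simp only [extMap, dif_pos hi] at hz ⊢
        exact bc_ker (hfg0 ⟨i, hi⟩).1 (by have := hII ⟨i, hi⟩; omega) z hz)
      (fun i hi z hz => by
        simp only [extMap, dif_pos hi] at hz ⊢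
        exact bc_ker (hfg0 ⟨i, hi⟩).2 (hII ⟨i, hi⟩) z hz)
      (fun i hi z hz => by
        simp only [extMap, dif_pos (show i < n by omega), dif_pos hi] at hz ⊢
        exact range_inf_ker_bc (hIII ⟨i, by omega⟩ ⟨i + 1, hi⟩ rfl) z hz)
      (extMap_mem f g (e (CommAlgCat.of k k) x).2).1 (extMap_mem f g (e (CommAlgCat.of k k) x).2).2
  let ρ := (Fintype.equivFinOfCardEq hcard).symm
  let u0 : Fin r → ℕ → k ⊗[k] (Fin d → k) := fun t =>
    Sum.elim (fun t i => path (extMap f k) (extMap g k) (J t) i (c t))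
      (fun m i => brk (extMap f k) (extMap g k) (I m) (x₀ m) (y₀ m) i) (ρ t)
  have hind0 : ∀ l ≤ n, LinearIndependent k fun t => u0 t l := fun l hl => (hV l hl).2.comp ρ ρ.injective
  have heq0 : ∀ l ≤ n, mem' e x l = spanAt k u0 l := fun l hl => by
    rw [(hV l hl).1]
    refine congrArg (Submodule.span k) ?_
    exact (Function.Surjective.range_comp ρ.surjective _).symm
  -- the broken rows
  obtain ⟨m₀⟩ : Nonempty μ := by
    by_contra hμ
    rw [not_nonempty_iff] at hμ
    have hch := isChain_path (hfg k) (hgf k) (fun t => J ((ρ t).elim id isEmptyElim))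
      (fun t => c ((ρ t).elim id isEmptyElim))
    have hu0 : ∀ t l, u0 t l = path (extMap f k) (extMap g k) (J ((ρ t).elim id isEmptyElim)) l
        (c ((ρ t).elim id isEmptyElim)) := by
      intro t l
      simp only [u0]
      rcases ρ t with q | q
      · rfl
      · exact isEmptyElim q
    refine hx ((ex_and_vec e x _ hch (fun l hl => ?_) fun l hl => ?_).1 fun t i _ => ?_)
    · simpa only [hu0] using hind0 l hl
    · rw [heq0 l hl]
      simp only [spanAt, hu0]
    · by_cases hj : J ((ρ t).elim id isEmptyElim) ≤ i <;> simp [hj]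
  choose M hM using fun l : ℕ => show ∃ M : Matrix (Fin r) (Fin d) k, l ≤ n → minor M (fun t => u0 t l) = 1 from
    if h : l ≤ n then (exists_minor _ (hind0 l h)).imp fun _ hM _ => hM else ⟨0, fun h' => absurd h' h⟩
  let cT := fun (σ : Bool) (τ : k) (t : Fin r) (l : ℕ) =>
    Sum.elim (fun q : κ => if J q ≤ l then (1 : k) else 0)
      (fun m : μ => if l < I m then 0 else if l = I m then (bif σ then τ else 0) else 1) (ρ t)
  let cT' := fun (σ : Bool) (τ : k) (t : Fin r) (l : ℕ) =>
    Sum.elim (fun q : κ => if J q ≤ l then (0 : k) else 1)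
      (fun m : μ => if l < I m then 1 else if l = I m then (bif σ then 0 else τ) else 0) (ρ t)
  refine ⟨fun σ i => Nat.card {t // cT σ 1 t i ≠ 0}, ?_, fun σ O hO => ?_⟩
  · intro hval
    have h1 := congrFun hval ⟨I m₀, (hm m₀).1⟩
    simp only [Nat.card_eq_fintype_card, Fintype.card_subtype] at h1
    have hsub : (Finset.univ.filter fun t => cT false 1 t (I m₀) ≠ 0) ⊂
        (Finset.univ.filter fun t => cT true 1 t (I m₀) ≠ 0) := by
      rw [Finset.ssubset_iff_of_subset]
      · exact ⟨ρ.symm (Sum.inr m₀), by simp [cT], by simp [cT]⟩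
      · intro t
        simp only [Finset.mem_filter, Finset.mem_univ, true_and, cT]
        rcases ρ t with q | q
        · exact id
        · simp only [Sum.elim_inr, cond_true, cond_false]
          split_ifs <;> simp
    exact absurd h1.symm (Finset.card_lt_card hsub).ne
  · let P := k[X]
    let ι₀ : k →ₐ[k] P := Algebra.ofId k P
    let α : Fin r → ℕ → P := fun t l => Sum.elim (fun q : κ => if J q ≤ l then (1 : P) else 0)
      (fun m : μ => if l < I m then 0 else if l = I m then (bif σ then Polynomial.X else 0) else 1) (ρ t)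
    let β : Fin r → ℕ → P := fun t l => Sum.elim (fun q : κ => if J q ≤ l then (0 : P) else 1)
      (fun m : μ => if l < I m then 1 else if l = I m then (bif σ then 0 else Polynomial.X) else 0) (ρ t)
    let vx : μ → P ⊗[k] (Fin d → k) := fun m =>
      bif σ then bcM ι₀ (x₀ m) + (Polynomial.X : P) • bcM ι₀ (u m) else bcM ι₀ (x₀ m)
    let vy : μ → P ⊗[k] (Fin d → k) := fun m =>
      bif σ then bcM ι₀ (y₀ m) else bcM ι₀ (y₀ m) + (Polynomial.X : P) • bcM ι₀ (w m)
    let v : Fin r → ℕ → P ⊗[k] (Fin d → k) := fun t =>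
      Sum.elim (fun q l => path (extMap f P) (extMap g P) (J q) l (bcM ι₀ (c q)))
        (fun m l => brk (extMap f P) (extMap g P) (I m) (vx m) (vy m) l) (ρ t)
    have hv : IsChain (extMap f P) (extMap g P) n v α β := by
      intro t l hl
      simp only [v, α, β]
      rcases ρ t with q | m
      · exact isChain_path (hfg P) (hgf P) J (fun q => bcM ι₀ (c q)) q l hl
      · obtain ⟨-, hxm, hym, hum, hwm⟩ := hm m
        refine brk_apply (hfg P) (hgf P) ?_ ?_ hl
        · cases σ <;> simp [vx, vy, ← bcM_extMap, hxm, hum]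
        · cases σ <;> simp [vx, vy, ← bcM_extMap, hym, hwm]
    have hid : ∀ (τ : k) (z : k ⊗[k] (Fin d → k)), bcM (Polynomial.aeval τ) (bcM ι₀ z) = z := fun τ z => by
      rw [bcM_comp, show (Polynomial.aeval τ).comp ι₀ = AlgHom.id k k from Subsingleton.elim _ _]
      induction z using TensorProduct.induction_on with
      | zero => simp
      | tmul a b => rfl
      | add y z hy hz => rw [map_add, hy, hz]
    have hv0 : ∀ t l, bcM (Polynomial.aeval (0 : k)) (v t l) = u0 t l := by
      intro t l
      simp only [v, u0]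
      rcases ρ t with q | m
      · simp only [Sum.elim_inl]
        rw [path_intertwine (bcM _) (bcM_extMap f _) (bcM_extMap g _), hid]
      · simp only [Sum.elim_inr, brk]
        split_ifs <;> rw [path_intertwine (bcM _) (bcM_extMap f _) (bcM_extMap g _)] <;>
          cases σ <;> simp [vx, vy, bcM_smul, hid]
    obtain ⟨h, hdvd, hh0⟩ : ∃ h : P, (∀ l ≤ n, (minor (M l) fun t => v t l) ∣ h) ∧ Polynomial.aeval (0 : k) h ≠ 0 := by
      refine ⟨∏ l ∈ Finset.range (n + 1), minor (M l) fun t => v t l,
        fun l hl => Finset.dvd_prod_of_mem _ (Finset.mem_range.mpr (Nat.lt_succ_of_le hl)), ?_⟩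
      rw [map_prod, Finset.prod_ne_zero_iff]
      intro l hl
      rw [← minor_bcM]
      simp only [hv0, hM l (Nat.lt_succ_iff.mp (Finset.mem_range.mp hl))]
      exact one_ne_zero
    let Ph := Localization.Away h
    let ι := IsScalarTower.toAlgHom k P Ph
    have hhu : IsUnit (ι h) := IsLocalization.Away.algebraMap_isUnit h
    have hunit : ∀ l ≤ n, IsUnit (minor (M l) fun t => bcM ι (v t l)) := fun l hl => by
      rw [minor_bcM]
      exact isUnit_of_dvd_unit (map_dvd ι (hdvd l hl)) hhu
    have hvh := hv.map ι (bcM ι) (bcM_extMap f ι) (bcM_extMap g ι) (bcM_smul ι)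
    obtain ⟨b, hb⟩ := exists_family e _ hvh M hunit
    let θ : ∀ τ : k, Polynomial.aeval τ h ≠ 0 → (Ph →ₐ[k] k) := fun τ hτ =>
      IsLocalization.liftAlgHom (M := Submonoid.powers h) (f := Polynomial.aeval τ) fun q => by
        obtain ⟨_, m, rfl⟩ := q
        rw [map_pow]
        exact (isUnit_iff_ne_zero.mpr hτ).pow m
    have hθ : ∀ τ hτ, (θ τ hτ).comp ι = Polynomial.aeval τ := fun τ hτ => AlgHom.ext fun q =>
      IsLocalization.lift_eq _ q
    have hpt : ∀ τ hτ, IsChain (extMap f k) (extMap g k) n (fun t l => bcM (Polynomial.aeval τ) (v t l))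
        (fun t l => Polynomial.aeval τ (α t l)) (fun t l => Polynomial.aeval τ (β t l)) ∧
        ∀ l ≤ n, LinearIndependent k (fun t => bcM (Polynomial.aeval τ) (v t l)) ∧
          mem' e (evalPt b (θ τ hτ)) l = spanAt k (fun t l => bcM (Polynomial.aeval τ) (v t l)) l := by
      intro τ hτ
      refine ⟨hv.map (Polynomial.aeval τ) (bcM _) (bcM_extMap f _) (bcM_extMap g _) (bcM_smul _), ?_⟩
      have h2 := (exists_chain_at e he hrd b _ hvh M hb (θ τ hτ) fun l hl =>
        ((hunit l hl).map (θ τ hτ)).ne_zero).2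
      simpa only [bcM_comp, hθ] using h2
    have hx0 : evalPt b (θ 0 hh0) = x := by
      apply (e (CommAlgCat.of k k)).injective
      refine Subtype.ext (funext fun i => Grassmannian.ext ?_)
      have hi := Nat.lt_succ_iff.mp i.2
      have h1 := heq0 i hi
      have h2 := ((hpt 0 hh0).2 i hi).2
      rw [mem', extPt_eq _ hi] at h1 h2
      rw [h1, h2]
      simp only [spanAt, hv0]
    have hemb : Topology.IsOpenEmbedding (PrimeSpectrum.comap (algebraMap P Ph)) :=
      PrimeSpectrum.localization_away_isOpenEmbedding Ph h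
    let pOf : ∀ τ : k, PrimeSpectrum P := fun τ =>
      PrimeSpectrum.comap (Polynomial.aeval τ : P →ₐ[k] k).toRingHom (IsLocalRing.closedPoint k)
    let qOf : ∀ τ : k, Polynomial.aeval τ h ≠ 0 → PrimeSpectrum Ph := fun τ hτ =>
      PrimeSpectrum.comap (θ τ hτ).toRingHom (IsLocalRing.closedPoint k)
    have hpq : ∀ (τ : k) (hτ : Polynomial.aeval τ h ≠ 0), PrimeSpectrum.comap (algebraMap P Ph) (qOf τ hτ) = pOf τ := fun τ hτ => by
      simp only [qOf, pOf, ← hθ τ hτ]
      rfl
    have hopen : IsOpen (PrimeSpectrum.comap (algebraMap P Ph) '' (b.left.base ⁻¹' O)) :=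
      hemb.isOpenMap _ (O.2.preimage b.left.continuous)
    have hmem : pOf 0 ∈ PrimeSpectrum.comap (algebraMap P Ph) '' (b.left.base ⁻¹' O) := by
      refine ⟨qOf 0 hh0, ?_, hpq 0 hh0⟩
      show b.left (qOf 0 hh0) ∈ O
      rw [← hx0] at hO
      exact hO
    obtain ⟨_, ⟨_, ⟨p, rfl⟩, rfl⟩, hp0, hsub⟩ :=
      PrimeSpectrum.isBasis_basic_opens.exists_subset_of_mem_open hmem hopen
    have hp : Polynomial.aeval (0 : k) p ≠ 0 := (comap_closedPoint_notMem _ p).mp hp0
    haveI : Infinite k := IsAlgClosed.instInfinite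
    obtain ⟨τ, hτ⟩ : ∃ τ : k, (Polynomial.X * p * h).eval τ ≠ 0 := by
      by_contra hno
      push Not at hno
      have h0 : Polynomial.X * p * h = 0 := Polynomial.funext fun τ => by rw [hno τ, Polynomial.eval_zero]
      rcases mul_eq_zero.mp h0 with h1 | h1
      · exact (mul_eq_zero.mp h1).elim Polynomial.X_ne_zero fun h2 => hp (by rw [h2, map_zero])
      · exact hh0 (by rw [h1, map_zero])
    rw [Polynomial.eval_mul, Polynomial.eval_mul, mul_ne_zero_iff, mul_ne_zero_iff, Polynomial.eval_X] at hτ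
    obtain ⟨⟨hτ0, hτp⟩, hτh⟩ := hτ
    rw [← Polynomial.coe_aeval_eq_eval] at hτp hτh
    refine ⟨evalPt b (θ τ hτh), ?_, ?_⟩
    · obtain ⟨q, hq, hqe⟩ := hsub ((comap_closedPoint_notMem _ p).mpr hτp : pOf τ ∈ PrimeSpectrum.basicOpen p)
      have := hemb.injective (hqe.trans (hpq τ hτh).symm)
      rw [this] at hq
      exact hq
    obtain ⟨hch, hsp⟩ := hpt τ hτh
    obtain ⟨hex, hvec⟩ := ex_and_vec e _ _ hch (fun l hl => (hsp l hl).1) (fun l hl => (hsp l hl).2)
    refine ⟨hex fun t i _ => ?_, funext fun i => ?_⟩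
    · simp only [α, β]
      rcases ρ t with q | m
      · simp only [Sum.elim_inl]; split_ifs <;> simp
      · simp only [Sum.elim_inr]
        cases σ <;> split_ifs <;> simp [hτ0]
    · rw [hvec i]
      refine Nat.card_congr (Equiv.subtypeEquivRight fun t => ?_)
      simp only [α, cT]
      rcases ρ t with q | m
      · simp only [Sum.elim_inl]; split_ifs <;> simp
      · simp only [Sum.elim_inr]
        cases σ <;> split_ifs <;> simp [hτ0]

end Groth.Agent.LinkedGrass
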