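import Mathlib.LinearAlgebra.FiniteDimensional.Basic
import Mathlib.LinearAlgebra.FiniteDimensional.Lemmas
import Mathlib.LinearAlgebra.Dimension.Constructions
import Mathlib.LinearAlgebra.Dimension.OrzechProperty
import Mathlib.Algebra.BigOperators.Fin
import Mathlib.Algebra.BigOperators.Group.Finset.Defs

/-!
# Chains of linked submodules: generators at an exact point

`F i : E_i → E_{i+1}`, `G i : E_{i+1} → E_i` (all `E_i = E`), compositions `s`.
-/

set_option autoImplicit false

namespace Groth.Agent.LinkedGrass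

variable {R : Type*} [CommRing R] {E : Type*} [AddCommGroup E] [Module R E]
  (F G : ℕ → E →ₗ[R] E)

/-- `t` steps forward from `j`. -/
def fwd (j : ℕ) : ℕ → (E →ₗ[R] E)
  | 0 => LinearMap.id
  | t + 1 => F (j + t) ∘ₗ fwd j t

/-- `t` steps backward down to `i`. -/
def bwd : ℕ → ℕ → (E →ₗ[R] E)
  | _, 0 => LinearMap.id
  | i, t + 1 => G i ∘ₗ bwd (i + 1) t

/-- From place `j` to place `i`. -/
def path (j i : ℕ) : E →ₗ[R] E := if j ≤ i then fwd F j (i - j) else bwd G i (j - i)

theorem path_self (i : ℕ) : path F G i i = LinearMap.id := by simp [path, fwd]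

theorem F_path_of_le {j i : ℕ} (h : j ≤ i) (x : E) : F i (path F G j i x) = path F G j (i + 1) x := by
  rw [path, path, if_pos h, if_pos (h.trans i.le_succ), Nat.succ_sub h, fwd, Nat.add_sub_cancel' h]
  rfl

theorem G_path_of_lt {j i : ℕ} (h : i < j) (x : E) : G i (path F G j (i + 1) x) = path F G j i x := by
  have h2 : path F G j (i + 1) = bwd G (i + 1) (j - (i + 1)) := by
    by_cases hj : j ≤ i + 1
    · obtain rfl : j = i + 1 := by omega
      simp [path, fwd, bwd]
    · rw [path, if_neg hj]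
  conv_rhs => rw [path, if_neg (by omega), show j - i = (j - (i + 1)) + 1 by omega, bwd]
  rw [h2]
  rfl

variable {F G}

theorem G_path_of_le {s : R} {j i : ℕ} (hgf : ∀ x, G i (F i x) = s • x) (h : j ≤ i) (x : E) :
    G i (path F G j (i + 1) x) = s • path F G j i x := by
  rw [← F_path_of_le F G h, hgf]

theorem F_path_of_lt {s : R} {j i : ℕ} (hfg : ∀ x, F i (G i x) = s • x) (h : i < j) (x : E) :
    F i (path F G j i x) = s • path F G j (i + 1) x := by
  rw [← G_path_of_lt F G h, hfg]

theorem path_mem {n : ℕ} {V : ℕ → Submodule R E} (hf : ∀ i < n, ∀ x ∈ V i, F i x ∈ V (i + 1))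
    (hg : ∀ i < n, ∀ x ∈ V (i + 1), G i x ∈ V i) {j i : ℕ} (hj : j ≤ n) (hi : i ≤ n) {x : E} (hx : x ∈ V j) :
    path F G j i x ∈ V i := by
  by_cases h : j ≤ i
  · obtain ⟨t, rfl⟩ := Nat.exists_eq_add_of_le h
    induction t with
    | zero => simpa [path_self] using hx
    | succ t ih =>
      rw [← add_assoc, ← F_path_of_le F G (Nat.le_add_right j t)]
      exact hf _ (by omega) _ (ih (by omega) (Nat.le_add_right j t))
  · obtain ⟨t, rfl⟩ := Nat.exists_eq_add_of_le (le_of_not_ge h)
    clear h
    induction t generalizing i with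
    | zero => simpa [path_self] using hx
    | succ t ih =>
      rw [← G_path_of_lt F G (show i < i + (t + 1) by omega)]
      have hx' : x ∈ V ((i + 1) + t) := by rwa [show i + 1 + t = i + (t + 1) by omega]
      have := ih (i := i + 1) (by omega) (by omega) hx'
      rw [show i + 1 + t = i + (t + 1) by omega] at this
      exact hg _ (by omega) _ this

theorem path_intertwine {R' : Type*} [CommRing R'] {E' : Type*} [AddCommGroup E'] [Module R' E']
    {F' G' : ℕ → E' →ₗ[R'] E'} (T : E → E') (hF : ∀ i x, T (F i x) = F' i (T x)) (hG : ∀ i x, T (G i x) = G' i (T x))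
    (j i : ℕ) (x : E) : T (path F G j i x) = path F' G' j i (T x) := by
  have hb : ∀ (t i : ℕ) (x : E), T (bwd G i t x) = bwd G' i t (T x) := by
    intro t
    induction t with
    | zero => intro i x; rfl
    | succ t ih => intro i x; show T (G i (bwd G (i + 1) t x)) = _; rw [hG, ih]; rfl
  have hf : ∀ (t : ℕ), T (fwd F j t x) = fwd F' j t (T x) := by
    intro t
    induction t with
    | zero => rfl
    | succ t ih => show T (F (j + t) (fwd F j t x)) = _; rw [hF, ih]; rfl
  by_cases h : j ≤ i
  · simp only [path, if_pos h]; exact hf _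
  · simp only [path, if_neg h]; exact hb _ _ _

theorem map_span_path_le {ι : Type*} {n : ℕ} {s : R} (hfg : ∀ i < n, ∀ x, F i (G i x) = s • x)
    (J : ι → ℕ) (c : ι → E) (i : ℕ) (hi : i < n) :
    ∀ x ∈ Submodule.span R (Set.range fun t => path F G (J t) i (c t)),
      F i x ∈ Submodule.span R (Set.range fun t => path F G (J t) (i + 1) (c t)) := by
  intro x hx
  induction hx using Submodule.span_induction with
  | mem y hy =>
    obtain ⟨t, rfl⟩ := hy
    by_cases h : J t ≤ i
    · rw [F_path_of_le F G h]; exact Submodule.subset_span ⟨t, rfl⟩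
    · rw [F_path_of_lt (hfg i hi) (lt_of_not_ge h)]; exact Submodule.smul_mem _ _ (Submodule.subset_span ⟨t, rfl⟩)
  | zero => simp
  | add y z _ _ hy hz => rw [map_add]; exact add_mem hy hz
  | smul a y _ hy => rw [map_smul]; exact Submodule.smul_mem _ _ hy

theorem map_span_path_ge {ι : Type*} {n : ℕ} {s : R} (hgf : ∀ i < n, ∀ x, G i (F i x) = s • x)
    (J : ι → ℕ) (c : ι → E) (i : ℕ) (hi : i < n) :
    ∀ x ∈ Submodule.span R (Set.range fun t => path F G (J t) (i + 1) (c t)),
      G i x ∈ Submodule.span R (Set.range fun t => path F G (J t) i (c t)) := by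
  intro x hx
  induction hx using Submodule.span_induction with
  | mem y hy =>
    obtain ⟨t, rfl⟩ := hy
    by_cases h : J t ≤ i
    · rw [G_path_of_le (hgf i hi) h]; exact Submodule.smul_mem _ _ (Submodule.subset_span ⟨t, rfl⟩)
    · rw [G_path_of_lt F G (lt_of_not_ge h)]; exact Submodule.subset_span ⟨t, rfl⟩
  | zero => simp
  | add y z _ _ hy hz => rw [map_add]; exact add_mem hy hz
  | smul a y _ hy => rw [map_smul]; exact Submodule.smul_mem _ _ hy

section Field

variable {k : Type*} [Field k] {E : Type*} [AddCommGroup E] [Module k E] [FiniteDimensional k E]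
  {F G : ℕ → E →ₗ[k] E}

theorem finrank_map_add_finrank_ker_inf (f : E →ₗ[k] E) (W : Submodule k E) :
    Module.finrank k (W.map f) + Module.finrank k ↥(LinearMap.ker f ⊓ W) = Module.finrank k W := by
  have h := (f.domRestrict W).finrank_range_add_finrank_ker
  rw [LinearMap.range_domRestrict] at h
  rw [← h]
  congr 1
  have e : LinearMap.ker (f.domRestrict W) = (LinearMap.ker f ⊓ W).comap W.subtype := by
    ext x; simp
  rw [e]
  exact (Submodule.comapSubtypeEquivOfLe inf_le_right).finrank_eq.symm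

/-- At an exact point, `r` vectors out of any given bases generate all the members of the chain. -/
theorem exists_generators_of_bases {n r : ℕ} {s : k} (V : ℕ → Submodule k E) (hV : ∀ i ≤ n, Module.finrank k (V i) = r)
    (hfg : ∀ i < n, ∀ x, F i (G i x) = s • x) (hgf : ∀ i < n, ∀ x, G i (F i x) = s • x)
    (hIII : ∀ i, i + 1 < n → ∀ x, F (i + 1) (F i x) = 0 → F i x = 0)
    (hf : ∀ i < n, ∀ x ∈ V i, F i x ∈ V (i + 1)) (hg : ∀ i < n, ∀ x ∈ V (i + 1), G i x ∈ V i)
    (hex : ∀ i < n, LinearMap.ker (G i) ⊓ V (i + 1) ≤ (V i).map (F i) ∧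
      LinearMap.ker (F i) ⊓ V i ≤ (V (i + 1)).map (G i))
    (bs : ℕ → Fin r → E) (hbs : ∀ i ≤ n, V i = Submodule.span k (Set.range (bs i))) :
    ∃ (J : Fin r → ℕ) (σ : Fin r → Fin r), (∀ t, J t ≤ n) ∧
      ∀ i ≤ n, LinearIndependent k fun t => path F G (J t) i (bs (J t) (σ t)) := by
  classical
  suffices h : ∃ (ι : Type) (_ : Fintype ι) (J : ι → ℕ) (σ : ι → Fin r), Fintype.card ι = r ∧
      (∀ t, J t ≤ n) ∧
      ∀ i ≤ n, V i ≤ Submodule.span k (Set.range fun t => path F G (J t) i (bs (J t) (σ t))) by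
    obtain ⟨ι, _, J, σ, hcard, hmem, hspan⟩ := h
    let e := (Fintype.equivFinOfCardEq hcard).symm
    refine ⟨J ∘ e, σ ∘ e, fun t => hmem _, fun i hi => ?_⟩
    refine (linearIndependent_equiv (R := k) e (f := fun t => path F G (J t) i (bs (J t) (σ t)))).mpr ?_
    rw [linearIndependent_iff_card_le_finrank_span (R := k)]
    exact (hcard.trans (hV i hi).symm).le.trans (Submodule.finrank_mono (hspan i hi))
  by_cases hs : s = 0
  swap
  · refine ⟨Fin r, inferInstance, fun _ => 0, id, Fintype.card_fin r, fun t => n.zero_le, fun i => ?_⟩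
    induction i with
    | zero =>
      intro _
      rw [hbs 0 n.zero_le]
      simp only [path_self, LinearMap.id_apply, id_eq, le_refl]
    | succ i ih =>
      intro hi x hx
      have h1 : G i x ∈ V i := hg i hi x hx
      have h2 := map_span_path_le hfg _ _ i hi _ (ih (by omega) h1)
      rw [hfg i hi] at h2
      exact (Submodule.smul_mem_iff _ hs).mp h2
  subst hs
  let P : ℕ → Submodule k E := fun i => if i = 0 then ⊥ else (V (i - 1)).map (F (i - 1))
  let Q : ℕ → Submodule k E := fun i => if i < n then (V (i + 1)).map (G i) else ⊥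
  have hP : ∀ i, P (i + 1) = (V i).map (F i) := fun i => by simp [P]
  have hQ : ∀ i < n, Q i = (V (i + 1)).map (G i) := fun i hi => by simp [Q, hi]
  have hPle : ∀ i ≤ n, P i ≤ V i := by
    rintro (_ | i) hi
    · simp [P]
    · rw [hP]; rintro _ ⟨x, hx, rfl⟩; exact hf i (by omega) x hx
  have hQle : ∀ i ≤ n, Q i ≤ V i := fun i hi => by
    by_cases h : i < n
    · rw [hQ i h]; rintro _ ⟨x, hx, rfl⟩; exact hg i h x hx
    · simp [Q, h]
  have hdis : ∀ i ≤ n, P i ⊓ Q i = ⊥ := by
    rintro (_ | i) hi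
    · simp [P]
    by_cases h : i + 1 < n
    · rw [hP, hQ _ h, eq_bot_iff]
      rintro _ ⟨⟨x, -, rfl⟩, ⟨y, -, hy⟩⟩
      refine (Submodule.mem_bot k).mpr (hIII i h x ?_)
      rw [← hy, hfg _ h, zero_smul]
    · simp [Q, h]
  let p : ℕ → ℕ := fun i => if i ≤ n then Module.finrank k (P i) else r
  have hpq : ∀ i ≤ n, p (i + 1) + Module.finrank k (Q i) = r := by
    intro i hi
    by_cases h : i < n
    · have h1 := finrank_map_add_finrank_ker_inf (G i) (V (i + 1))
      have h2 : LinearMap.ker (G i) ⊓ V (i + 1) = P (i + 1) := by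
        rw [hP]
        refine le_antisymm (hex i h).1 ?_
        rintro _ ⟨x, hx, rfl⟩
        exact ⟨show G i (F i x) = 0 by rw [hgf i h, zero_smul], hf i h x hx⟩
      rw [h2, ← hQ i h, hV _ h] at h1
      simp only [p, if_pos (show i + 1 ≤ n from h)]
      omega
    · rw [show Q i = ⊥ from if_neg h, finrank_bot, add_zero, show p (i + 1) = r from if_neg (by omega)]
  have hcompl : ∀ i, ∃ (C : Submodule k E) (m : ℕ) (σ : Fin m → Fin r), i ≤ n →
      C = Submodule.span k (Set.range fun a => bs i (σ a)) ∧ Module.finrank k C = m ∧ C ≤ V i ∧ C ⊔ (P i ⊔ Q i) = V i ∧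
      Module.finrank k C + p i = p (i + 1) := by
    intro i
    by_cases hi : i ≤ n
    swap
    · exact ⟨⊥, 0, Fin.elim0, fun h => absurd h hi⟩
    let U := P i ⊔ Q i
    obtain ⟨B, hBsub, hBspan, hBind⟩ := exists_linearIndependent k (Set.range fun a => U.mkQ (bs i a))
    haveI : Fintype B := ((Set.finite_range _).subset hBsub).fintype
    choose σ₀ hσ₀ using fun z : B => hBsub z.2
    let σ := σ₀ ∘ (Fintype.equivFin B).symm
    refine ⟨Submodule.span k (Set.range fun a => bs i (σ a)), Fintype.card B, σ, fun _ => ⟨rfl, ?_⟩⟩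
    have hcomp : (fun a => U.mkQ (bs i (σ a))) = fun a => ((Fintype.equivFin B).symm a).1 := funext fun a => hσ₀ _
    have hind : LinearIndependent k fun a => U.mkQ (bs i (σ a)) := by
      rw [hcomp]; exact hBind.comp _ (Fintype.equivFin B).symm.injective
    have hC : Module.finrank k (Submodule.span k (Set.range fun a => bs i (σ a))) = Fintype.card B := by
      rw [finrank_span_eq_card (LinearIndependent.of_comp U.mkQ hind), Fintype.card_fin]
    have hle : P i ⊔ Q i ≤ V i := sup_le (hPle i hi) (hQle i hi)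
    have hCV : Submodule.span k (Set.range fun a => bs i (σ a)) ≤ V i := by
      rw [hbs i hi]; exact Submodule.span_mono (by rintro _ ⟨a, rfl⟩; exact ⟨σ a, rfl⟩)
    have hmap : (Submodule.span k (Set.range fun a => bs i (σ a))).map U.mkQ = (V i).map U.mkQ := by
      rw [hbs i hi, Submodule.map_span, Submodule.map_span, ← Set.range_comp, ← Set.range_comp,
        show (⇑U.mkQ ∘ fun a => bs i (σ a)) = _ from hcomp]
      refine Eq.trans (congrArg (Submodule.span k) ?_) hBspan
      ext z
      exact ⟨fun ⟨a, ha⟩ => ha ▸ Subtype.coe_prop _, fun hz => ⟨Fintype.equivFin B ⟨z, hz⟩, by simp⟩⟩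
    have h1 : Submodule.span k (Set.range fun a => bs i (σ a)) ⊔ (P i ⊔ Q i) = V i := by
      have := congrArg (Submodule.comap U.mkQ) hmap
      rw [Submodule.comap_map_mkQ, Submodule.comap_map_mkQ, sup_eq_right.mpr hle, sup_comm] at this
      exact this
    refine ⟨hC, hCV, h1, ?_⟩
    have h2 := Submodule.finrank_sup_add_finrank_inf_eq (Submodule.span k (Set.range fun a => bs i (σ a))) (P i ⊔ Q i)
    rw [h1, eq_bot_iff.mpr (show Submodule.span k (Set.range fun a => bs i (σ a)) ⊓ U ≤ ⊥ by
      rintro z ⟨hz, hzU⟩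
      obtain ⟨c, rfl⟩ := (Submodule.mem_span_range_iff_exists_fun k).mp hz
      have hc := Fintype.linearIndependent_iff.mp hind c (by
        have h0 := (Submodule.Quotient.mk_eq_zero U).mpr hzU
        simpa only [← Submodule.mkQ_apply, map_sum, map_smul] using h0)
      exact (Submodule.mem_bot k).mpr (Finset.sum_eq_zero fun a _ => by rw [hc a, zero_smul])), finrank_bot, hV i hi] at h2
    have h3 := Submodule.finrank_sup_add_finrank_inf_eq (P i) (Q i)
    rw [hdis i hi, finrank_bot] at h3
    have h4 := hpq i hi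
    have h5 : p i = Module.finrank k (P i) := by simp [p, hi]
    omega
  choose C dd σ hC' using hcompl
  have hC : ∀ i ≤ n, C i ≤ V i ∧ C i ⊔ (P i ⊔ Q i) = V i ∧ Module.finrank k (C i) + p i = p (i + 1) :=
    fun i hi => (hC' i hi).2.2
  have hsum : ∀ m ≤ n + 1, ∑ i ∈ Finset.range m, Module.finrank k (C i) = p m := by
    intro m
    induction m with
    | zero => intro _; simp [p, P]
    | succ m ih =>
      intro hm
      rw [Finset.sum_range_succ, ih (by omega), add_comm]
      exact (hC m (by omega)).2.2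
  refine ⟨Σ i : Fin (n + 1), Fin (dd i), inferInstance, fun t => t.1, fun t => σ t.1 t.2, ?_, fun t =>
    Nat.lt_succ_iff.mp t.1.2, ?_⟩
  · rw [Fintype.card_sigma]
    simp only [Fintype.card_fin]
    rw [Fin.sum_univ_eq_sum_range dd, Finset.sum_congr rfl fun i hi =>
      ((hC' i (Nat.lt_succ_iff.mp (Finset.mem_range.mp hi))).2.1).symm, hsum _ le_rfl]
    simp [p]
  set S := fun i => Submodule.span k (Set.range fun t : Σ i : Fin (n + 1), Fin (dd i) => path F G t.1 i (bs t.1 (σ t.1 t.2)))
  have hCS : ∀ i ≤ n, C i ≤ S i := by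
    intro i hi
    rw [(hC' i hi).1, Submodule.span_le]
    rintro _ ⟨a, rfl⟩
    exact Submodule.subset_span ⟨⟨⟨i, by omega⟩, a⟩, by simp [path_self]⟩
  have hPS : ∀ i ≤ n, P i ≤ S i := by
    intro i
    induction i with
    | zero => simp [P]
    | succ i ih =>
      intro hi
      have hin : i < n := by omega
      have h0 : (Q i).map (F i) = ⊥ := by
        rw [hQ i hin, eq_bot_iff]
        rintro _ ⟨_, ⟨y, -, rfl⟩, rfl⟩
        simp [hfg i hin]
      rw [hP, ← (hC i hin.le).2.1, Submodule.map_sup, Submodule.map_sup, h0, sup_bot_eq, sup_le_iff]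
      constructor <;> rintro _ ⟨x, hx, rfl⟩
      · exact map_span_path_le hfg _ _ i hin x (hCS i hin.le hx)
      · exact map_span_path_le hfg _ _ i hin x (ih hin.le hx)
  have hQS : ∀ t i, i + t = n → Q i ≤ S i := by
    intro t
    induction t with
    | zero => intro i hi; simp [Q, show ¬ i < n by omega]
    | succ t ih =>
      intro i hi
      have hin : i < n := by omega
      have h0 : (P (i + 1)).map (G i) = ⊥ := by
        rw [hP, eq_bot_iff]
        rintro _ ⟨_, ⟨y, -, rfl⟩, rfl⟩
        simp [hgf i hin]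
      rw [hQ i hin, ← (hC (i + 1) hin).2.1, Submodule.map_sup, Submodule.map_sup, h0, bot_sup_eq, sup_le_iff]
      constructor <;> rintro _ ⟨x, hx, rfl⟩
      · exact map_span_path_ge hgf _ _ i hin x (hCS _ hin hx)
      · exact map_span_path_ge hgf _ _ i hin x (ih (i + 1) (by omega) hx)
  intro i hi
  rw [← (hC i hi).2.1]
  exact sup_le (hCS i hi) (sup_le (hPS i hi) (hQS (n - i) i (by omega)))

/-- At an exact point, `r` vectors generate all the members of the chain. -/
theorem exists_generators {n r : ℕ} {s : k} (V : ℕ → Submodule k E) (hV : ∀ i ≤ n, Module.finrank k (V i) = r)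
    (hfg : ∀ i < n, ∀ x, F i (G i x) = s • x) (hgf : ∀ i < n, ∀ x, G i (F i x) = s • x)
    (hIII : ∀ i, i + 1 < n → ∀ x, F (i + 1) (F i x) = 0 → F i x = 0)
    (hf : ∀ i < n, ∀ x ∈ V i, F i x ∈ V (i + 1)) (hg : ∀ i < n, ∀ x ∈ V (i + 1), G i x ∈ V i)
    (hex : ∀ i < n, LinearMap.ker (G i) ⊓ V (i + 1) ≤ (V i).map (F i) ∧
      LinearMap.ker (F i) ⊓ V i ≤ (V (i + 1)).map (G i)) :
    ∃ (J : Fin r → ℕ) (c : Fin r → E), (∀ t, J t ≤ n ∧ c t ∈ V (J t)) ∧
      ∀ i ≤ n, LinearIndependent k fun t => path F G (J t) i (c t) := by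
  classical
  let bs : ℕ → Fin r → E := fun i =>
    if h : i ≤ n then fun t => ((Module.finBasisOfFinrankEq k _ (hV i h)) t).1 else 0
  have hbs : ∀ i ≤ n, V i = Submodule.span k (Set.range (bs i)) := fun i hi => by
    simp only [bs, dif_pos hi]
    have h2 : Submodule.map (V i).subtype ⊤ = V i := Submodule.map_subtype_top _
    rw [← (Module.finBasisOfFinrankEq k _ (hV i hi)).span_eq, Submodule.map_span, ← Set.range_comp] at h2
    exact h2.symm
  obtain ⟨J, σ, hJ, h⟩ := exists_generators_of_bases V hV hfg hgf hIII hf hg hex bs hbs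
  refine ⟨J, fun t => bs (J t) (σ t), fun t => ⟨hJ t, ?_⟩, h⟩
  rw [hbs _ (hJ t)]
  exact Submodule.subset_span ⟨_, rfl⟩

end Field

end Groth.Agent.LinkedGrass
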