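import Groth.Agent.LinkedGrass.Degenerate
import Mathlib.Topology.Irreducible

/-!
# The exact locus of the linked Grassmannian
-/

set_option autoImplicit false
set_option backward.isDefEq.respectTransparency false
set_option linter.style.haveILetI false

universe u

noncomputable section

open CategoryTheory AlgebraicGeometry TensorProduct Module

namespace Groth.Agent.LinkedGrass

open W4c1limliniiii GrassClosed

variable {k : Type u} [Field k] {X : Over (Spec (CommRingCat.of k))} {d r n : ℕ}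
  {f g : Fin n → ((Fin d → k) →ₗ[k] (Fin d → k))}
  (e : ∀ A : CommAlgCat.{u} k, (SpA A ⟶ X) ≃ LGPoints k d r n f g A)
  (he : ∀ (A B : CommAlgCat.{u} k) (φ : A ⟶ B) (x : SpA A ⟶ X) (x' : SpA B ⟶ X),
    x'.left = Spec.map (CommRingCat.ofHom φ.hom.toRingHom) ≫ x.left →
      ∀ i, (e B x').1 i = Module.Grassmannian.map φ.hom ((e A x).1 i))

/-- The exact locus, with given ranks. -/
def exLocus (a : Fin n → ℕ) : X.left.Opens :=
  sSup {W | ∀ y : KPt X, y.base ∈ W → Ex e y ∧ vec e y = a}

theorem mem_exLocus {a : Fin n → ℕ} {x : KPt X} (h : x.base ∈ exLocus e a) : Ex e x ∧ vec e x = a := by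
  obtain ⟨W, hW, hxW⟩ := TopologicalSpace.Opens.mem_sSup.mp h
  exact hW x hxW

variable [IsAlgClosed k] (hrd : r < d) {s : k}
  (hI : ∀ i, (f i).comp (g i) = s • LinearMap.id ∧ (g i).comp (f i) = s • LinearMap.id)
  (hII : ∀ i, d ≤ finrank k (LinearMap.range (f i)) + finrank k (LinearMap.range (g i)))
  (hIII : ∀ i j : Fin n, i.val + 1 = j.val → LinearMap.range (f i) ⊓ LinearMap.ker (f j) = ⊥)

include he hrd hI hIII in
theorem base_mem_exLocus {x : KPt X} (hx : Ex e x) : x.base ∈ exLocus e (vec e x) := by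
  obtain ⟨W, hxW, hW, -⟩ := exists_nhd e he hrd hI hIII x hx
  exact TopologicalSpace.Opens.mem_sSup.mpr ⟨W, hW, hxW⟩

include he hrd hI hII hIII in
theorem exists_open_dense :
    ∃ U : Set X.left, IsOpen U ∧ Dense U ∧ ∀ x : KPt X, (Set.range x.left.base ⊆ U ↔ Ex e x) := by
  haveI := locallyOfFinitePresentation e he
  haveI : LocallyOfFiniteType X.hom := inferInstance
  refine ⟨⋃ a, (exLocus e a : Set X.left), isOpen_iUnion fun a => (exLocus e a).2, ?_, fun x => ?_⟩
  · rw [dense_iff_inter_open]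
    intro O hO hne
    obtain ⟨x, hxO⟩ := exists_kpt (X := X) hO.isLocallyClosed hne
    by_cases hx : Ex e x
    · exact ⟨_, hxO, Set.mem_iUnion.mpr ⟨_, base_mem_exLocus e he hrd hI hIII hx⟩⟩
    · obtain ⟨a, -, ha⟩ := twoLimits_of_not_ex e he hrd hI hII hIII x hx
      obtain ⟨y, hyO, hy, -⟩ := ha true ⟨O, hO⟩ hxO
      exact ⟨_, hyO, Set.mem_iUnion.mpr ⟨_, base_mem_exLocus e he hrd hI hIII hy⟩⟩
  · rw [KPt.range_eq, Set.singleton_subset_iff]
    constructor
    · intro h
      obtain ⟨a, ha⟩ := Set.mem_iUnion.mp h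
      exact (mem_exLocus e ha).1
    · exact fun hx => Set.mem_iUnion.mpr ⟨_, base_mem_exLocus e he hrd hI hIII hx⟩

include he in
theorem noetherianSpace : TopologicalSpace.NoetherianSpace X.left := by
  obtain ⟨Y, eY, heY, hY⟩ := exists_linked d r n f g
  obtain ⟨c, hc⟩ := exists_hom_of_points (Y := Y) (X := X) (fun A z => (e A).symm (eY A z)) fun A B φ z z' h => by
    have h1 : (e B).symm (eY B z') = GrassRep.ptAlg φ.hom ≫ (e A).symm (eY A z) := by
      rw [Equiv.symm_apply_eq]
      refine Subtype.ext (funext fun i => ?_)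
      rw [e_comp e he, Equiv.apply_symm_apply]
      exact heY A B φ z z' h i
    rw [h1]
    rfl
  haveI : IsIso c := QuadSm.isIso_of_points c fun A _ _ => by
    have : (fun z : QuadGrp.specOver k A ⟶ Y => z ≫ c) = ((eY (CommAlgCat.of k A)).trans (e (CommAlgCat.of k A)).symm :) :=
      funext fun z => hc (CommAlgCat.of k A) z
    rw [this]
    exact Equiv.bijective _
  haveI : IsProper (inv c.left ≫ Y.hom) := inferInstance
  haveI : IsProper X.hom := by
    rw [show X.hom = inv c.left ≫ Y.hom by rw [IsIso.eq_inv_comp]; exact Over.w c]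
    infer_instance
  haveI : IsLocallyNoetherian X.left := LocallyOfFiniteType.isLocallyNoetherian X.hom
  haveI : CompactSpace X.left := HasAffineProperty.iff_of_isAffine.mp (inferInstance : QuasiCompact X.hom)
  haveI : IsNoetherian X.left := {}
  infer_instance

include he hrd hI hII hIII in
theorem not_ex_iff (x : KPt X) :
    ¬ Ex e x ↔ ∃ Z₁ ∈ irreducibleComponents X.left, ∃ Z₂ ∈ irreducibleComponents X.left,
      Z₁ ≠ Z₂ ∧ Set.range x.left.base ⊆ Z₁ ∩ Z₂ := by
  haveI := locallyOfFinitePresentation e he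
  haveI : LocallyOfFiniteType X.hom := inferInstance
  haveI := noetherianSpace e he
  rw [KPt.range_eq]
  simp only [Set.singleton_subset_iff]
  constructor
  · intro hx
    obtain ⟨a, hne, ha⟩ := twoLimits_of_not_ex e he hrd hI hII hIII x hx
    have key : ∀ σ, ∃ Z ∈ irreducibleComponents X.left, x.base ∈ Z ∧ (Z ∩ exLocus e (a σ)).Nonempty := by
      intro σ
      by_contra hno
      push Not at hno
      let C : Set X.left := ⋃ Z ∈ {Z ∈ irreducibleComponents X.left | x.base ∉ Z}, Z
      have hC : IsClosed C := (TopologicalSpace.NoetherianSpace.finite_irreducibleComponents.subset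
        fun Z hZ => hZ.1).isClosed_biUnion fun Z hZ => isClosed_of_mem_irreducibleComponents Z hZ.1
      have hxC : x.base ∈ Cᶜ := by
        simp only [C, Set.mem_compl_iff, Set.mem_iUnion, not_exists]
        exact fun Z hZ => hZ.2
      obtain ⟨y, hyO, hy, hya⟩ := ha σ ⟨Cᶜ, hC.isOpen_compl⟩ hxC
      have hyl : y.base ∈ exLocus e (a σ) := hya ▸ base_mem_exLocus e he hrd hI hIII hy
      have hyZ := hno (irreducibleComponent y.base) (irreducibleComponent_mem_irreducibleComponents _)
      by_cases h : x.base ∈ irreducibleComponent y.base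
      · exact Set.eq_empty_iff_forall_notMem.mp (hyZ h) y.base ⟨mem_irreducibleComponent, hyl⟩
      · exact hyO (Set.mem_biUnion ⟨irreducibleComponent_mem_irreducibleComponents _, h⟩ mem_irreducibleComponent)
    obtain ⟨Z₁, hZ₁, hx₁, hn₁⟩ := key true
    obtain ⟨Z₂, hZ₂, hx₂, hn₂⟩ := key false
    refine ⟨Z₁, hZ₁, Z₂, hZ₂, fun heq => ?_, hx₁, hx₂⟩
    subst heq
    obtain ⟨p, -, hp⟩ := hZ₁.1.2 _ _ (exLocus e (a true)).2 (exLocus e (a false)).2 hn₁ hn₂
    obtain ⟨y, hy⟩ := exists_kpt (X := X) ((exLocus e (a true)).2.inter (exLocus e (a false)).2).isLocallyClosed ⟨p, hp⟩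
    exact hne ((mem_exLocus e hy.1).2.symm.trans (mem_exLocus e hy.2).2)
  · rintro ⟨Z₁, hZ₁, Z₂, hZ₂, hne, hx₁, hx₂⟩ hx
    obtain ⟨W, hxW, -, S, hS, hSc, hWS⟩ := exists_nhd e he hrd hI hIII x hx
    have key : ∀ Z ∈ irreducibleComponents X.left, x.base ∈ Z → Z = S := fun Z hZ hxZ => by
      have h1 : Z ⊆ S := (subset_closure_inter_of_isPreirreducible_of_isOpen hZ.1.2 W.2 ⟨_, hxZ, hxW⟩).trans
        (closure_minimal (Set.inter_subset_right.trans hWS) hSc)
      exact Set.Subset.antisymm h1 (hZ.2 hS h1)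
    exact hne ((key Z₁ hZ₁ hx₁).trans (key Z₂ hZ₂ hx₂).symm)

end Groth.Agent.LinkedGrass
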