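import Groth.Agent.LinkedGrass.Minor
import Groth.Agent.GrassRep.Glue
import Groth.Agent.GrassClosed.Points

/-!
# Families of linked points from chains, over any base ring
-/

set_option autoImplicit false
set_option backward.isDefEq.respectTransparency false
set_option linter.style.haveILetI false

universe u

noncomputable section

open CategoryTheory AlgebraicGeometry TensorProduct Module

namespace Groth.Agent.LinkedGrass

open W4c1limliniiii GrassClosed

variable {k : Type u} [CommRing k] {X : Over (Spec (CommRingCat.of k))} {d r n : ℕ}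
  {f g : Fin n → ((Fin d → k) →ₗ[k] (Fin d → k))}
  (e : ∀ A : CommAlgCat.{u} k, (SpA A ⟶ X) ≃ LGPoints k d r n f g A)

theorem e_natural (he : ∀ (A B : CommAlgCat.{u} k) (φ : A ⟶ B) (x : SpA A ⟶ X) (x' : SpA B ⟶ X),
    x'.left = Spec.map (CommRingCat.ofHom φ.hom.toRingHom) ≫ x.left →
      ∀ i, (e B x').1 i = Module.Grassmannian.map φ.hom ((e A x).1 i))
    {A B : CommAlgCat.{u} k} (φ : A →ₐ[k] B) (x : SpA A ⟶ X) (i : Fin (n + 1)) :
    (e B (GrassRep.ptAlg φ ≫ x)).1 i = Module.Grassmannian.map φ ((e A x).1 i) :=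
  he A B (CommAlgCat.ofHom φ) x _ rfl i

variable {A : Type u} [CommRing A] [Algebra k A]

/-- A chain with invertible minors gives a family of points. -/
theorem exists_family (v : Fin r → ℕ → A ⊗[k] (Fin d → k)) {α β : Fin r → ℕ → A}
    (hv : IsChain (extMap f A) (extMap g A) n v α β) (M : ℕ → Matrix (Fin r) (Fin d) k)
    (hM : ∀ l ≤ n, IsUnit (minor (M l) fun t => v t l)) :
    ∃ a : SpA (CommAlgCat.of k A) ⟶ X, ∀ l ≤ n, ∀ t, v t l ∈ extPt (e (CommAlgCat.of k A) a).1 l := by
  choose N hN using fun i : Fin (n + 1) => exists_grass_of_minor (M i) _ (hM i (Nat.lt_succ_iff.mp i.2))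
  have hL : N ∈ LGPoints k d r n f g A := fun i => by
    constructor <;> rintro _ ⟨x, hx, rfl⟩ <;> rw [SetLike.mem_coe, hN] at hx <;> rw [← extMap_val, hN]
    · exact hv.F_mem i.2 hx
    · exact hv.G_mem i.2 hx
  refine ⟨(e (CommAlgCat.of k A)).symm ⟨N, hL⟩, fun l hl t => ?_⟩
  rw [extPt_eq _ hl, Equiv.apply_symm_apply, hN]
  exact Submodule.subset_span ⟨t, rfl⟩

end Groth.Agent.LinkedGrass
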