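import Groth.Agent.LinkedGrass.Lift
import Mathlib.RingTheory.Flat.Basic
import Mathlib.RingTheory.LocalRing.ResidueField.Ideal
import Mathlib.RingTheory.TensorProduct.IsBaseChangePi

/-!
# The linked conditions at the fibres pass to all field valued points
-/

set_option autoImplicit false
set_option linter.style.haveILetI false

universe u

noncomputable section

open TensorProduct Module

namespace Groth.Agent.LinkedGrass

variable {R : Type u} [CommRing R] {d : ℕ} {κ K : Type u} [Field κ] [Field K] [Algebra R κ] [Algebra κ K]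
  [Algebra R K] [IsScalarTower R κ K]

theorem cancel_baseChange (b : (Fin d → R) →ₗ[R] (Fin d → R)) (x : K ⊗[κ] (κ ⊗[R] (Fin d → R))) :
    AlgebraTensorModule.cancelBaseChange R κ K K (Fin d → R) ((b.baseChange κ).baseChange K x) =
      b.baseChange K (AlgebraTensorModule.cancelBaseChange R κ K K (Fin d → R) x) := by
  induction x using TensorProduct.induction_on with
  | zero => simp
  | tmul c y =>
    induction y using TensorProduct.induction_on with
    | zero => simp
    | tmul e v => simp [TensorProduct.tmul_smul, TensorProduct.smul_tmul']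
    | add y z hy hz => simp only [TensorProduct.tmul_add, map_add, hy, hz]
  | add y z hy hz => simp only [map_add, hy, hz]

theorem exact_lTensor_ker {E E' : Type u} [AddCommGroup E] [Module κ E] [AddCommGroup E'] [Module κ E']
    (T : E →ₗ[κ] E') (x : K ⊗[κ] E) (hx : T.baseChange K x = 0) :
    ∃ z, (LinearMap.ker T).subtype.baseChange K z = x :=
  (Module.Flat.lTensor_exact K (LinearMap.exact_subtype_ker_map T) x).mp hx

theorem exists_pre_field {a b : (Fin d → R) →ₗ[R] (Fin d → R)}
    (h : LinearMap.ker (a.baseChange κ) ≤ LinearMap.range (b.baseChange κ))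
    (y : K ⊗[R] (Fin d → R)) (hy : a.baseChange K y = 0) : ∃ u, b.baseChange K u = y := by
  let E := AlgebraTensorModule.cancelBaseChange R κ K K (Fin d → R)
  have hy' : (a.baseChange κ).baseChange K (E.symm y) = 0 := E.injective (by
    rw [cancel_baseChange, LinearEquiv.apply_symm_apply, hy, map_zero])
  obtain ⟨z, hz⟩ := exact_lTensor_ker (K := K) (a.baseChange κ) (E.symm y) hy'
  have : ∃ u, (b.baseChange κ).baseChange K u = E.symm y := by
    rw [← hz]
    clear hz hy'
    induction z using TensorProduct.induction_on with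
    | zero => exact ⟨0, by simp⟩
    | tmul c v =>
      obtain ⟨v', hv'⟩ := h v.2
      exact ⟨c ⊗ₜ v', by simp [hv']⟩
    | add z z' hz hz' =>
      obtain ⟨u, hu⟩ := hz
      obtain ⟨u', hu'⟩ := hz'
      exact ⟨u + u', by rw [map_add, map_add, hu, hu']⟩
  obtain ⟨u, hu⟩ := this
  exact ⟨E u, by rw [← cancel_baseChange, hu, LinearEquiv.apply_symm_apply]⟩

theorem eq_zero_field {a b : (Fin d → R) →ₗ[R] (Fin d → R)}
    (h : LinearMap.range (b.baseChange κ) ⊓ LinearMap.ker (a.baseChange κ) = ⊥)
    (x : K ⊗[R] (Fin d → R)) (hx : a.baseChange K (b.baseChange K x) = 0) : b.baseChange K x = 0 := by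
  let E := AlgebraTensorModule.cancelBaseChange R κ K K (Fin d → R)
  set A := a.baseChange κ
  set B := b.baseChange κ
  have hle : LinearMap.ker (A.comp B) ≤ LinearMap.ker B := fun v hv => by
    have : B v ∈ LinearMap.range B ⊓ LinearMap.ker A := ⟨⟨v, rfl⟩, hv⟩
    rw [h] at this
    exact (Submodule.mem_bot κ).mp this
  have hx' : (A.comp B).baseChange K (E.symm x) = 0 := E.injective (by
    rw [LinearMap.baseChange_comp, LinearMap.comp_apply, cancel_baseChange, cancel_baseChange,
      LinearEquiv.apply_symm_apply, hx, map_zero])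
  obtain ⟨z, hz⟩ := exact_lTensor_ker (K := K) (A.comp B) (E.symm x) hx'
  have h0 : B.baseChange K (E.symm x) = 0 := by
    rw [← hz]
    clear hz hx'
    induction z using TensorProduct.induction_on with
    | zero => simp
    | tmul c v => simp [show B v.1 = 0 from hle v.2]
    | add z z' hz hz' => rw [map_add, map_add, hz, hz', add_zero]
  rw [← LinearEquiv.apply_symm_apply E x, ← cancel_baseChange, h0, map_zero]

theorem ker_le_range_field {a b : (Fin d → R) →ₗ[R] (Fin d → R)} (hab : ∀ z : κ ⊗[R] (Fin d → R),
      a.baseChange κ (b.baseChange κ z) = 0)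
    (hrk : d ≤ finrank κ (LinearMap.range (b.baseChange κ)) + finrank κ (LinearMap.range (a.baseChange κ))) :
    LinearMap.ker (a.baseChange κ) ≤ LinearMap.range (b.baseChange κ) := by
  haveI : FiniteDimensional κ (κ ⊗[R] (Fin d → R)) :=
    Module.Finite.of_basis ((Pi.basisFun R (Fin d)).baseChange κ)
  refine (Submodule.eq_of_le_of_finrank_le ?_ ?_).ge
  · rintro _ ⟨z, rfl⟩; exact hab z
  · have h1 := (a.baseChange κ).finrank_range_add_finrank_ker
    rw [Module.finrank_eq_card_basis ((Pi.basisFun R (Fin d)).baseChange κ), Fintype.card_fin] at h1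
    omega

end Groth.Agent.LinkedGrass
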