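import Groth.Agent.LinkedGrass.Degenerate
import Mathlib.RingTheory.Flat.Basic
import Mathlib.FieldTheory.RatFunc.Basic

/-!
# Points of the linked Grassmannian with values in extension fields
-/

set_option autoImplicit false
set_option backward.isDefEq.respectTransparency false
set_option linter.style.haveILetI false

universe u

noncomputable section

open CategoryTheory AlgebraicGeometry TensorProduct Module

namespace Groth.Agent.LinkedGrass

open W4c1limliniiii GrassClosed

section Field

variable {k : Type u} [Field k] {d r n : ℕ} {K : Type u} [Field K] [Algebra k K]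

theorem exists_pre_of_ker_le {a b : (Fin d → k) →ₗ[k] (Fin d → k)} (h : LinearMap.ker a ≤ LinearMap.range b)
    (y : K ⊗[k] (Fin d → k)) (hy : a.baseChange K y = 0) : ∃ u, b.baseChange K u = y := by
  have hex : Function.Exact (LinearMap.ker a).subtype a := LinearMap.exact_subtype_ker_map a
  obtain ⟨z, rfl⟩ := (Module.Flat.lTensor_exact K hex y).mp hy
  clear hy
  induction z using TensorProduct.induction_on with
  | zero => exact ⟨0, by simp⟩
  | tmul c v =>
    obtain ⟨v', hv'⟩ := h v.2
    exact ⟨c ⊗ₜ v', by simp [hv']⟩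
  | add z z' hz hz' =>
    obtain ⟨u, hu⟩ := hz
    obtain ⟨u', hu'⟩ := hz'
    exact ⟨u + u', by rw [map_add, map_add, hu, hu']⟩

theorem bc_eq_zero {a b : (Fin d → k) →ₗ[k] (Fin d → k)} (h : LinearMap.range b ⊓ LinearMap.ker a = ⊥)
    (x : K ⊗[k] (Fin d → k)) (hx : a.baseChange K (b.baseChange K x) = 0) : b.baseChange K x = 0 := by
  have hle : LinearMap.ker (a.comp b) ≤ LinearMap.ker b := fun v hv => by
    have : b v ∈ LinearMap.range b ⊓ LinearMap.ker a := ⟨⟨v, rfl⟩, hv⟩
    rw [h] at this
    exact (Submodule.mem_bot k).mp this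
  have hex : Function.Exact (LinearMap.ker (a.comp b)).subtype (a.comp b) := LinearMap.exact_subtype_ker_map _
  have hx' : (a.comp b).baseChange K x = 0 := by rw [LinearMap.baseChange_comp]; exact hx
  obtain ⟨z, rfl⟩ := (Module.Flat.lTensor_exact K hex x).mp hx'
  clear hx hx'
  induction z using TensorProduct.induction_on with
  | zero => simp
  | tmul c v => simp [show b v.1 = 0 from hle v.2]
  | add z z' hz hz' => rw [map_add, map_add, hz, hz', add_zero]

theorem ker_le_range {a b : (Fin d → k) →ₗ[k] (Fin d → k)} (hab : a.comp b = 0)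
    (hrk : d ≤ finrank k (LinearMap.range b) + finrank k (LinearMap.range a)) :
    LinearMap.ker a ≤ LinearMap.range b := by
  refine (Submodule.eq_of_le_of_finrank_le (LinearMap.range_le_ker_iff.mpr hab) ?_).ge
  have := a.finrank_range_add_finrank_ker
  rw [Module.finrank_fin_fun] at this
  omega

end Field

section Ring

variable {k : Type u} [CommRing k] {d r n : ℕ} {K : Type u} [Field K] [Algebra k K]

/-- The selection of coordinates. -/
def sel (R : Fin r → Fin d) : Matrix (Fin r) (Fin d) k := Matrix.of fun s j => if j = R s then 1 else 0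

theorem sel_mul {A : Type u} [CommRing A] [Algebra k A] (R : Fin r → Fin d) (u : Fin r → A ⊗[k] (Fin d → k)) :
    (sel (k := k) R).map (algebraMap k A) * crd u = (crd u).submatrix R id := by
  ext s t
  simp [sel, Matrix.mul_apply, apply_ite (algebraMap k A)]

/-- Coordinates which detect independence. -/
theorem exists_sel {u : Fin r → K ⊗[k] (Fin d → k)} (hu : LinearIndependent K u) :
    ∃ R : Fin r → Fin d, Function.Injective R ∧ IsUnit (minor (sel (k := k) R) u) := by
  classical
  set C := crd u
  have hcol : LinearIndependent K C.col := by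
    exact hu.map' ((Pi.basisFun k (Fin d)).baseChange K).equivFun.toLinearMap (LinearEquiv.ker _)
  have hrank : C.rank = r := by
    rw [Matrix.rank_eq_finrank_span_cols, finrank_span_eq_card hcol, Fintype.card_fin]
  rw [Matrix.rank_eq_finrank_span_row] at hrank
  obtain ⟨B, hBsub, hBspan, hBind⟩ := exists_linearIndependent K (Set.range C.row)
  haveI : Fintype B := ((Set.finite_range _).subset hBsub).fintype
  have hBcard : Fintype.card B = r := by
    have h1 := finrank_span_eq_card hBind
    rw [Subtype.range_coe, hBspan] at h1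
    exact h1.symm.trans hrank
  choose R₀ hR₀ using fun z : B => hBsub z.2
  let ε := (Fintype.equivFinOfCardEq hBcard).symm
  refine ⟨R₀ ∘ ε, fun a b h => ε.injective (Subtype.ext ?_), ?_⟩
  · rw [← hR₀ (ε a), ← hR₀ (ε b)]
    exact congrArg C.row h
  · rw [minor, sel_mul, ← Matrix.isUnit_iff_isUnit_det, ← Matrix.linearIndependent_rows_iff_isUnit]
    have : (C.submatrix (R₀ ∘ ε) id).row = fun a => (ε a).1 := funext fun a => hR₀ (ε a)
    rw [this]
    exact hBind.comp _ ε.injective

theorem indep_coe {E : Type u} [AddCommGroup E] [Module K E] (W : Submodule K E) (β : Basis (Fin r) K W) :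
    LinearIndependent K (W.subtype ∘ β) :=
  LinearIndependent.map' β.linearIndependent W.subtype W.ker_subtype

/-- The echelon basis. -/
theorem exists_echelon (W : Submodule K (K ⊗[k] (Fin d → k))) (hW : finrank K W = r) :
    ∃ (R : Fin r → Fin d) (b : Fin r → K ⊗[k] (Fin d → k)), Function.Injective R ∧
      W = Submodule.span K (Set.range b) ∧
      ∀ s t, ((Pi.basisFun k (Fin d)).baseChange K).repr (b t) (R s) = if s = t then 1 else 0 := by
  classical
  haveI : FiniteDimensional K (K ⊗[k] (Fin d → k)) :=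
    Module.Finite.of_basis ((Pi.basisFun k (Fin d)).baseChange K)
  haveI : Module.Free K W := Module.Free.of_divisionRing K W
  haveI : Module.Finite K W := FiniteDimensional.finiteDimensional_submodule W
  obtain ⟨β⟩ : Nonempty (Basis (Fin r) K W) := ⟨Module.finBasisOfFinrankEq K W hW⟩
  have hu : LinearIndependent K (W.subtype ∘ β) := indep_coe W β
  obtain ⟨R, hR, hu'⟩ := exists_sel hu
  rw [minor, sel_mul] at hu'
  set N := (crd (W.subtype ∘ β)).submatrix R id
  let b : Fin r → K ⊗[k] (Fin d → k) := fun t => ∑ a, (N⁻¹) a t • (β a).1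
  have hb : ∀ s t, ((Pi.basisFun k (Fin d)).baseChange K).repr (b t) (R s) = if s = t then 1 else 0 := by
    intro s t
    have := congrFun (congrFun (Matrix.mul_nonsing_inv N hu') s) t
    rw [Matrix.mul_apply, Matrix.one_apply] at this
    rw [← this]
    simp [b, N, crd, Finsupp.coe_finset_sum, Finset.sum_apply, mul_comm]
  have hle : Submodule.span K (Set.range b) ≤ W := by
    rw [Submodule.span_le]
    rintro _ ⟨t, rfl⟩
    exact sum_mem fun a _ => W.smul_mem _ (β a).2
  clear_value b
  have hind : LinearIndependent K b := by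
    rw [Fintype.linearIndependent_iff]
    intro c hc t
    have := congrArg (fun z => ((Pi.basisFun k (Fin d)).baseChange K).repr z (R t)) hc
    simpa [Finsupp.coe_finset_sum, Finset.sum_apply, hb] using this
  have hfr : finrank K (Submodule.span K (Set.range b)) = finrank K W := by
    rw [finrank_span_eq_card hind, Fintype.card_fin, hW]
  have hspan := Submodule.eq_of_le_of_finrank_eq hle hfr
  exact ⟨R, b, hR, hspan.symm, hb⟩

theorem card_free (J : Fin r → ℕ) (R : ℕ → Fin r → Fin d) (hR : ∀ l, Function.Injective (R l)) :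
    Fintype.card {p : Fin r × Fin d // p.2 ∉ Set.range (R (J p.1))} = r * (d - r) := by
  classical
  rw [Fintype.card_congr
    (Equiv.subtypeProdEquivSigmaSubtype fun (t : Fin r) (j : Fin d) => j ∉ Set.range (R (J t))), Fintype.card_sigma,
    Finset.sum_congr rfl fun t _ => show Fintype.card {j : Fin d // j ∉ Set.range (R (J t))} = d - r by
      rw [Fintype.card_subtype_compl, Fintype.card_fin]
      congr 1
      exact (Set.card_range_of_injective (hR (J t))).trans (Fintype.card_fin r)]
  simp

variable {X : Over (Spec (CommRingCat.of k))} {f g : Fin n → ((Fin d → k) →ₗ[k] (Fin d → k))}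
  (e : ∀ A : CommAlgCat.{u} k, (SpA A ⟶ X) ≃ LGPoints k d r n f g A)
  (he : ∀ (A B : CommAlgCat.{u} k) (φ : A ⟶ B) (x : SpA A ⟶ X) (x' : SpA B ⟶ X),
    x'.left = Spec.map (CommRingCat.ofHom φ.hom.toRingHom) ≫ x.left →
      ∀ i, (e B x').1 i = Module.Grassmannian.map φ.hom ((e A x).1 i))

/-- The members of a point with values in a field. -/
def memF (y : SpA (CommAlgCat.of k K) ⟶ X) : ℕ → Submodule K (K ⊗[k] (Fin d → k)) :=
  extPt (e (CommAlgCat.of k K) y).1

theorem finrank_memF (hrd : r < d) (y : SpA (CommAlgCat.of k K) ⟶ X) {l : ℕ} (hl : l ≤ n) :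
    finrank K (memF e y l) = r := by
  rw [memF, extPt_eq _ hl]
  exact finrank_toSubmodule hrd.le _

theorem memF_eq_spanAt (hrd : r < d) (y : SpA (CommAlgCat.of k K) ⟶ X) {l : ℕ} (hl : l ≤ n)
    (u : Fin r → ℕ → K ⊗[k] (Fin d → k)) (hu : ∀ t, u t l ∈ memF e y l)
    (hind : LinearIndependent K fun t => u t l) : memF e y l = spanAt K u l := by
  haveI : FiniteDimensional K (K ⊗[k] (Fin d → k)) :=
    Module.Finite.of_basis ((Pi.basisFun k (Fin d)).baseChange K)
  refine (Submodule.eq_of_le_of_finrank_eq (Submodule.span_le.mpr (by rintro _ ⟨t, rfl⟩; exact hu t)) ?_).symm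
  rw [finrank_span_eq_card hind, Fintype.card_fin, finrank_memF e hrd y hl]

include he in
theorem bcM_mem_comp {A B : Type u} [CommRing A] [Algebra k A] [CommRing B] [Algebra k B] (φ : A →ₐ[k] B)
    (a : SpA (CommAlgCat.of k A) ⟶ X) {l : ℕ} (hl : l ≤ n) {z : A ⊗[k] (Fin d → k)}
    (hz : z ∈ extPt (e (CommAlgCat.of k A) a).1 l) :
    bcM φ z ∈ extPt (e (CommAlgCat.of k B)
      (GrassRep.ptAlg (A := CommAlgCat.of k B) (B := CommAlgCat.of k A) φ ≫ a)).1 l := by
  rw [extPt_eq _ hl] at hz ⊢
  rw [e_natural e he]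
  exact bcM_mem_map φ hz

/-- `y` is the only field valued point over a maximal point. -/
def IsGenericPt (y : SpA (CommAlgCat.of k K) ⟶ X) : Prop :=
  ∀ (L : Type u) [Field L] [Algebra k L] (w : SpA (CommAlgCat.of k L) ⟶ X),
    w.left (IsLocalRing.closedPoint L) ⤳ y.left (IsLocalRing.closedPoint K) →
      ∃ ι : K →ₐ[k] L, w = GrassRep.ptAlg (A := CommAlgCat.of k L) (B := CommAlgCat.of k K) ι ≫ y

theorem IsGenericPt.exists_hom {y : SpA (CommAlgCat.of k K) ⟶ X} (hy : IsGenericPt y) {A : Type u} [CommRing A]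
    [Algebra k A] (b : SpA (CommAlgCat.of k A) ⟶ X) (θ : A →ₐ[k] K)
    (hθ : GrassRep.ptAlg (A := CommAlgCat.of k K) (B := CommAlgCat.of k A) θ ≫ b = y)
    {L : Type u} [Field L] [Algebra k L] (l : A →ₐ[k] L) (hl : Function.Injective l) :
    ∃ ι : K →ₐ[k] L, GrassRep.ptAlg (A := CommAlgCat.of k L) (B := CommAlgCat.of k A) l ≫ b =
      GrassRep.ptAlg (A := CommAlgCat.of k L) (B := CommAlgCat.of k K) ι ≫ y := by
  refine hy L _ ?_
  rw [← hθ]
  show b.left (PrimeSpectrum.comap l.toRingHom (IsLocalRing.closedPoint L)) ⤳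
    b.left (PrimeSpectrum.comap θ.toRingHom (IsLocalRing.closedPoint K))
  refine ((PrimeSpectrum.le_iff_specializes _ _).mp fun z hz => ?_).map b.left.continuous
  rw [PrimeSpectrum.comap_asIdeal, Ideal.mem_comap] at hz
  have h0 : l z = 0 := by
    have : l z ∈ IsLocalRing.maximalIdeal L := hz
    rwa [IsLocalRing.maximalIdeal_eq_bot, Submodule.mem_bot] at this
  rw [hl (h0.trans (map_zero l).symm)]
  exact zero_mem _

end Ring

end Groth.Agent.LinkedGrass
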