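import Groth.Agent.LinkedGrass.GenericExact
import Groth.Agent.WeilLib.Trdeg
import Mathlib.RingTheory.KrullDimension.Polynomial

/-!
# The residue field of a generic point is purely transcendental of degree `r(d-r)`
-/

set_option autoImplicit false
set_option backward.isDefEq.respectTransparency false
set_option linter.style.haveILetI false

universe u

noncomputable section

open CategoryTheory AlgebraicGeometry TensorProduct Module

namespace Groth.Agent.LinkedGrass

open W4c1limliniiii GrassClosed

variable {k : Type u} [Field k] {d r n : ℕ} {K : Type u} [Field K] [Algebra k K]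
  {X : Over (Spec (CommRingCat.of k))} {f g : Fin n → ((Fin d → k) →ₗ[k] (Fin d → k))}
  (e : ∀ A : CommAlgCat.{u} k, (SpA A ⟶ X) ≃ LGPoints k d r n f g A)
  (he : ∀ (A B : CommAlgCat.{u} k) (φ : A ⟶ B) (x : SpA A ⟶ X) (x' : SpA B ⟶ X),
    x'.left = Spec.map (CommRingCat.ofHom φ.hom.toRingHom) ≫ x.left →
      ∀ i, (e B x').1 i = Module.Grassmannian.map φ.hom ((e A x).1 i))

include he in
set_option maxHeartbeats 1600000 in
theorem trdeg_of_isGenericPt (hrd : r < d) {s : k}
    (hI : ∀ i, (f i).comp (g i) = s • LinearMap.id ∧ (g i).comp (f i) = s • LinearMap.id)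
    (hIII : ∀ i j : Fin n, i.val + 1 = j.val → LinearMap.range (f i) ⊓ LinearMap.ker (f j) = ⊥)
    (y : SpA (CommAlgCat.of k K) ⟶ X) (hy : IsGenericPt y) (hex : ExF e y) :
    Algebra.trdeg k K = ((r * (d - r) : ℕ) : Cardinal.{u}) := by
  classical
  haveI : FiniteDimensional K (K ⊗[k] (Fin d → k)) :=
    Module.Finite.of_basis ((Pi.basisFun k (Fin d)).baseChange K)
  have hfg : ∀ (R : Type u) [CommRing R] [Algebra k R], ∀ i < n, ∀ z,
      extMap f R i (extMap g R i z) = algebraMap k R s • z := fun R => extMap_comp f g (fun i => (hI i).1) R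
  have hgf : ∀ (R : Type u) [CommRing R] [Algebra k R], ∀ i < n, ∀ z,
      extMap g R i (extMap f R i z) = algebraMap k R s • z := fun R => extMap_comp g f (fun i => (hI i).2) R
  have hech : ∀ l, ∃ (R : Fin r → Fin d) (b : Fin r → K ⊗[k] (Fin d → k)), Function.Injective R ∧ (l ≤ n →
      memF e y l = Submodule.span K (Set.range b) ∧
      ∀ s t, ((Pi.basisFun k (Fin d)).baseChange K).repr (b t) (R s) = if s = t then 1 else 0) := fun l =>
    if h : l ≤ n then by
      obtain ⟨R, b, h1, h2, h3⟩ := exists_echelon (memF e y l) (finrank_memF e hrd y h)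
      exact ⟨R, b, h1, fun _ => ⟨h2, h3⟩⟩
    else ⟨Fin.castLE hrd.le, 0, Fin.castLE_injective _, fun h' => absurd h' h⟩
  choose R bs hR hbs using hech
  obtain ⟨J, σ, hJ, hind⟩ := exists_generators_of_bases (F := extMap f K) (G := extMap g K) (memF e y)
    (fun i hi => finrank_memF e hrd y hi) (hfg K) (hgf K)
    (fun i hi z hz => by
      simp only [extMap, dif_pos (show i < n by omega), dif_pos hi] at hz ⊢
      exact bc_eq_zero (hIII ⟨i, by omega⟩ ⟨i + 1, hi⟩ rfl) z hz)
    (extMap_mem f g (e (CommAlgCat.of k K) y).2).1 (extMap_mem f g (e (CommAlgCat.of k K) y).2).2 hex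
    bs (fun i hi => (hbs i hi).1)
  set c : Fin r → K ⊗[k] (Fin d → k) := fun t => bs (J t) (σ t) with hc
  have hsel : ∀ l, ∃ M : Matrix (Fin r) (Fin d) k, l ≤ n →
      IsUnit (minor M fun t => path (extMap f K) (extMap g K) (J t) l (c t)) := fun l =>
    if h : l ≤ n then (exists_sel (k := k) (hind l h)).elim fun R hR => ⟨sel R, fun _ => hR.2⟩
    else ⟨0, fun h' => absurd h' h⟩
  choose M hM using hsel
  -- the chart
  let Free := {p : Fin r × Fin d // p.2 ∉ Set.range (R (J p.1))}
  let P := MvPolynomial Free k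
  let q : Fin r → Fin d → P := fun t j =>
    if h : j ∈ Set.range (R (J t)) then (if j = R (J t) (σ t) then 1 else 0)
    else MvPolynomial.X (⟨(t, j), h⟩ : Free)
  let cu : Fin r → P ⊗[k] (Fin d → k) := fun t => ∑ j, q t j • (Pi.basisFun k (Fin d)).baseChange P j
  have hcu : ∀ t j, ((Pi.basisFun k (Fin d)).baseChange P).repr (cu t) j = q t j := fun t j =>
    congrFun (((Pi.basisFun k (Fin d)).baseChange P).repr_sum_self (q t)) j
  let ev : P →ₐ[k] K := MvPolynomial.aeval fun p : Free =>
    ((Pi.basisFun k (Fin d)).baseChange K).repr (c p.1.1) p.1.2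
  have hevq : ∀ t j, ev (q t j) = ((Pi.basisFun k (Fin d)).baseChange K).repr (c t) j := by
    intro t j
    simp only [q]
    by_cases h : j ∈ Set.range (R (J t))
    · rw [dif_pos h]
      obtain ⟨a, rfl⟩ := h
      rw [hc, (hbs (J t) (hJ t)).2 a (σ t)]
      by_cases ha : a = σ t
      · simp [ha]
      · simp [ha, (hR (J t)).ne_iff]
    · rw [dif_neg h]
      exact MvPolynomial.aeval_X _ _
  have hevc : ∀ t, bcM ev (cu t) = c t := fun t => by
    apply ((Pi.basisFun k (Fin d)).baseChange K).ext_elem
    intro j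
    rw [repr_bcM, hcu, hevq]
  obtain ⟨h, hdvd, hh0⟩ : ∃ h : P, (∀ l ≤ n, (minor (M l) fun t => path (extMap f P) (extMap g P) (J t) l (cu t)) ∣ h) ∧
      ev h ≠ 0 := by
    refine ⟨∏ l ∈ Finset.range (n + 1), minor (M l) fun t => path (extMap f P) (extMap g P) (J t) l (cu t),
      fun l hl => Finset.dvd_prod_of_mem
        (fun l => minor (M l) fun t => path (extMap f P) (extMap g P) (J t) l (cu t))
        (Finset.mem_range.mpr (Nat.lt_succ_of_le hl)), ?_⟩
    rw [map_prod, Finset.prod_ne_zero_iff]
    intro l hl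
    rw [← minor_bcM]
    simp only [path_intertwine (bcM ev) (bcM_extMap f _) (bcM_extMap g _), hevc]
    exact (hM l (Nat.lt_succ_iff.mp (Finset.mem_range.mp hl))).ne_zero
  have hh : h ≠ 0 := fun h' => hh0 (by rw [h', map_zero])
  let Ph := Localization.Away h
  let ι := IsScalarTower.toAlgHom k P Ph
  have hhu : IsUnit (ι h) := IsLocalization.Away.algebraMap_isUnit h
  have hunit : ∀ l ≤ n, IsUnit (minor (M l) fun t => path (extMap f Ph) (extMap g Ph) (J t) l (bcM ι (cu t))) := by
    intro l hl
    simp only [← path_intertwine (bcM ι) (bcM_extMap f _) (bcM_extMap g _), minor_bcM]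
    exact isUnit_of_dvd_unit (map_dvd ι (hdvd l hl)) hhu
  obtain ⟨b, hb⟩ := exists_family e _ (isChain_path (hfg Ph) (hgf Ph) J fun t => bcM ι (cu t)) M hunit
  let θ : Ph →ₐ[k] K := IsLocalization.liftAlgHom (M := Submonoid.powers h) (f := ev) fun q => by
    obtain ⟨_, m, rfl⟩ := q
    rw [map_pow]
    exact (isUnit_iff_ne_zero.mpr hh0).pow m
  have hθ : θ.comp ι = ev := AlgHom.ext fun q => IsLocalization.lift_eq _ q
  have hθy : GrassRep.ptAlg (A := CommAlgCat.of k K) (B := CommAlgCat.of k Ph) θ ≫ b = y := by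
    apply (e (CommAlgCat.of k K)).injective
    refine Subtype.ext (funext fun i => Grassmannian.ext ?_)
    have hi := Nat.lt_succ_iff.mp i.2
    have h1 := memF_eq_spanAt e hrd y hi (fun t l => path (extMap f K) (extMap g K) (J t) l (c t))
      (fun t => path_mem (extMap_mem f g (e (CommAlgCat.of k K) y).2).1 (extMap_mem f g (e (CommAlgCat.of k K) y).2).2
        (hJ t) hi (by
          show bs (J t) (σ t) ∈ memF e y (J t)
          rw [(hbs (J t) (hJ t)).1]
          exact Submodule.subset_span ⟨_, rfl⟩)) (hind i hi)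
    have h2 := memF_eq_spanAt e hrd (GrassRep.ptAlg (A := CommAlgCat.of k K) (B := CommAlgCat.of k Ph) θ ≫ b) hi
      (fun t l => path (extMap f K) (extMap g K) (J t) l (c t))
      (fun t => by
        have := bcM_mem_comp e he θ b hi (hb i hi t)
        rw [path_intertwine (bcM θ) (bcM_extMap f _) (bcM_extMap g _), bcM_comp, hθ, hevc] at this
        exact this) (hind i hi)
    rw [memF, extPt_eq _ hi] at h1 h2
    exact h2.trans h1.symm
  let L := FractionRing P
  let lP : P →ₐ[k] L := IsScalarTower.toAlgHom k P L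
  have hlP : Function.Injective lP := IsFractionRing.injective P L
  let l : Ph →ₐ[k] L := IsLocalization.liftAlgHom (M := Submonoid.powers h) (f := lP) fun q => by
    obtain ⟨_, m, rfl⟩ := q
    rw [map_pow]
    exact (isUnit_iff_ne_zero.mpr ((map_ne_zero_iff _ hlP).mpr hh)).pow m
  have hl : l.comp ι = lP := AlgHom.ext fun q => IsLocalization.lift_eq _ q
  have hlinj : Function.Injective l := by
    refine (IsLocalization.lift_injective_iff (M := Submonoid.powers h) (S := Ph) _).mpr fun a b => ?_
    have hinj : Function.Injective (algebraMap P Ph) :=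
      IsLocalization.injective Ph (powers_le_nonZeroDivisors_of_noZeroDivisors hh)
    exact ⟨fun hab => congrArg lP (hinj hab), fun hab => congrArg (algebraMap P Ph) (hlP hab)⟩
  obtain ⟨j, hj⟩ := hy.exists_hom b θ hθy l hlinj
  set yL := GrassRep.ptAlg (A := CommAlgCat.of k L) (B := CommAlgCat.of k K) j ≫ y with hyL
  -- the coordinates are read off from the point
  have hcoord : ∀ t, bcM j (c t) = bcM lP (cu t) := by
    intro t
    have h1 : bcM j (c t) ∈ memF e yL (J t) := bcM_mem_comp e he j y (hJ t) (by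
      show bs (J t) (σ t) ∈ memF e y (J t)
      rw [(hbs (J t) (hJ t)).1]
      exact Submodule.subset_span ⟨_, rfl⟩)
    have h2 : bcM lP (cu t) ∈ memF e yL (J t) := by
      have h3 := bcM_mem_comp e he l b (hJ t) (hb (J t) (hJ t) t)
      rw [hj, path_self, LinearMap.id_apply, bcM_comp, hl] at h3
      exact h3
    have hrep : ∀ a w, ((Pi.basisFun k (Fin d)).baseChange L).repr (bcM j (bs (J t) w)) (R (J t) a) =
        if a = w then 1 else 0 := fun a w => by
      rw [repr_bcM, (hbs (J t) (hJ t)).2 a w]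
      split_ifs <;> simp
    have hspan : memF e yL (J t) = spanAt L (fun w _ => bcM j (bs (J t) w)) 0 := by
      refine Eq.trans (memF_eq_spanAt e hrd yL (hJ t) (fun w _ => bcM j (bs (J t) w))
        (fun w => bcM_mem_comp e he j y (hJ t) ?_) ?_) rfl
      · show bs (J t) w ∈ memF e y (J t)
        rw [(hbs (J t) (hJ t)).1]
        exact Submodule.subset_span ⟨_, rfl⟩
      · refine Fintype.linearIndependent_iff.mpr fun a ha w => ?_
        have := congrArg (fun z => ((Pi.basisFun k (Fin d)).baseChange L).repr z (R (J t) w)) ha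
        simpa [Finsupp.coe_finset_sum, Finset.sum_apply, hrep] using this
    have hD := sub_mem h1 h2
    rw [hspan] at hD
    obtain ⟨a, ha⟩ := (Submodule.mem_span_range_iff_exists_fun L).mp hD
    have hzero : ∀ w, a w = 0 := fun w => by
      have := congrArg (fun z => ((Pi.basisFun k (Fin d)).baseChange L).repr z (R (J t) w)) ha
      simp only [map_sum, map_smul, Finsupp.coe_finset_sum, Finset.sum_apply, Finsupp.smul_apply, hrep,
        smul_eq_mul, mul_ite, mul_one, mul_zero, Finset.sum_ite_eq, Finset.mem_univ, if_true, map_sub,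
        Finsupp.sub_apply] at this
      rw [this, hc, hrep, repr_bcM, hcu]
      simp only [q, dif_pos (Set.mem_range_self w)]
      by_cases hw : w = σ t
      · simp [hw]
      · simp [hw, (hR (J t)).ne_iff]
    rw [← sub_eq_zero, ← ha]
    exact Finset.sum_eq_zero fun w _ => by rw [hzero w, zero_smul]
  have hcomp : j.comp ev = lP := by
    refine MvPolynomial.algHom_ext fun p => ?_
    have := congrArg (fun z => ((Pi.basisFun k (Fin d)).baseChange L).repr z p.1.2) (hcoord p.1.1)
    simp only [repr_bcM, hcu] at this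
    rw [AlgHom.comp_apply, show ev (MvPolynomial.X p) = _ from MvPolynomial.aeval_X _ p]
    refine this.trans ?_
    simp only [q, dif_neg p.2]
    rfl
  have hev : Function.Injective ev := fun a b hab => hlP (by rw [← hcomp, AlgHom.comp_apply, hab]; rfl)
  have hfrac : ∀ z : K, ∃ b d : P, ev d ≠ 0 ∧ z * ev d = ev b := by
    intro z
    obtain ⟨a, b, hb, hab⟩ := IsFractionRing.div_surjective (A := P) (j z)
    have hb0 : b ≠ 0 := nonZeroDivisors.ne_zero hb
    have hevb : ev b ≠ 0 := (map_ne_zero_iff _ hev).mpr hb0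
    refine ⟨a, b, hevb, j.toRingHom.injective ?_⟩
    have h1 : lP b ≠ 0 := (map_ne_zero_iff _ hlP).mpr hb0
    show j (z * ev b) = j (ev a)
    rw [map_mul, ← AlgHom.comp_apply, hcomp, ← hab, ← AlgHom.comp_apply, hcomp]
    exact div_mul_cancel₀ _ h1
  obtain ⟨m, hm, hdim⟩ := WeilLib.exists_dim_eq_trdeg ev hev hfrac
  rw [hm]
  have : (m : WithBot ℕ∞) = ((r * (d - r) : ℕ) : WithBot ℕ∞) := by
    rw [← hdim, MvPolynomial.ringKrullDim_of_isNoetherianRing, ringKrullDim_eq_zero_of_field, zero_add,
      Nat.card_eq_fintype_card, card_free J R hR]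
  exact_mod_cast this

end Groth.Agent.LinkedGrass
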