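import Groth.Agent.LinkedGrass.FieldPts

/-!
# Generic points of the linked Grassmannian are exact
-/

set_option autoImplicit false
set_option backward.isDefEq.respectTransparency false
set_option linter.style.haveILetI false

universe u

noncomputable section

open CategoryTheory AlgebraicGeometry TensorProduct Module

namespace Groth.Agent.LinkedGrass

open W4c1limliniiii GrassClosed

variable {k : Type u} [CommRing k] {d r n : ℕ} {K : Type u} [Field K] [Algebra k K]
  {X : Over (Spec (CommRingCat.of k))} {f g : Fin n → ((Fin d → k) →ₗ[k] (Fin d → k))}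
  (e : ∀ A : CommAlgCat.{u} k, (SpA A ⟶ X) ≃ LGPoints k d r n f g A)
  (he : ∀ (A B : CommAlgCat.{u} k) (φ : A ⟶ B) (x : SpA A ⟶ X) (x' : SpA B ⟶ X),
    x'.left = Spec.map (CommRingCat.ofHom φ.hom.toRingHom) ≫ x.left →
      ∀ i, (e B x').1 i = Module.Grassmannian.map φ.hom ((e A x).1 i))

/-- Exactness of a point with values in a field. -/
def ExF (y : SpA (CommAlgCat.of k K) ⟶ X) : Prop := ∀ i < n,
  LinearMap.ker (extMap g K i) ⊓ memF e y (i + 1) ≤ (memF e y i).map (extMap f K i) ∧
    LinearMap.ker (extMap f K i) ⊓ memF e y i ≤ (memF e y (i + 1)).map (extMap g K i)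

omit [CommRing k] in
theorem not_le_of_broken {k : Type*} [Field k] {E : Type*} [AddCommGroup E] [Module k E] {F G : ℕ → E →ₗ[k] E}
    {ι : Type*} [Fintype ι] {v : ι → ℕ → E} {α β : ι → ℕ → k} (h : IsChain F G n v α β) {i : ℕ} (hi : i < n)
    (hind : LinearIndependent k fun t => v t (i + 1)) (t₀ : ι) (ha : α t₀ i = 0) (hb : β t₀ i = 0) :
    ¬ LinearMap.ker (G i) ⊓ spanAt k v (i + 1) ≤ (spanAt k v i).map (F i) := by
  classical
  intro hle
  obtain ⟨z, hz, hzv⟩ := hle (show v t₀ (i + 1) ∈ LinearMap.ker (G i) ⊓ spanAt k v (i + 1) from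
    ⟨show G i _ = 0 by rw [(h t₀ i hi).2, hb, zero_smul], Submodule.subset_span ⟨t₀, rfl⟩⟩)
  obtain ⟨c, rfl⟩ := (Submodule.mem_span_range_iff_exists_fun k).mp hz
  simp only [map_sum, map_smul, (h _ i hi).1, smul_smul] at hzv
  have := Fintype.linearIndependent_iff.mp hind (fun t => c t * α t i - if t = t₀ then 1 else 0) (by
    simp [sub_smul, Finset.sum_sub_distrib, hzv]) t₀
  simp [ha] at this

include he in
set_option maxHeartbeats 1600000 in
theorem exF_of_isGenericPt (hrd : r < d) {s : k}
    (hI : ∀ i, (f i).comp (g i) = s • LinearMap.id ∧ (g i).comp (f i) = s • LinearMap.id)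
    (hkerF : algebraMap k K s = 0 → ∀ i < n, ∀ z, extMap f K i z = 0 → ∃ w, extMap g K i w = z)
    (hkerG : algebraMap k K s = 0 → ∀ i < n, ∀ z, extMap g K i z = 0 → ∃ w, extMap f K i w = z)
    (hIIIK : ∀ i, i + 1 < n → ∀ z, extMap f K (i + 1) (extMap f K i z) = 0 → extMap f K i z = 0)
    (y : SpA (CommAlgCat.of k K) ⟶ X) (hy : IsGenericPt y) : ExF e y := by
  classical
  haveI : FiniteDimensional K (K ⊗[k] (Fin d → k)) :=
    Module.Finite.of_basis ((Pi.basisFun k (Fin d)).baseChange K)
  by_cases hs : algebraMap k K s = 0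
  swap
  · have hs' : algebraMap k K s ≠ 0 := hs
    refine fun i hi => ⟨?_, ?_⟩
    · rintro z ⟨hz, -⟩
      have h0 := extMap_comp f g (fun i => (hI i).1) K i hi z
      rw [show extMap g K i z = 0 from hz, map_zero] at h0
      rw [(smul_eq_zero.mp h0.symm).resolve_left hs']
      exact zero_mem _
    · rintro z ⟨hz, -⟩
      have h0 := extMap_comp g f (fun i => (hI i).2) K i hi z
      rw [show extMap f K i z = 0 from hz, map_zero] at h0
      rw [(smul_eq_zero.mp h0.symm).resolve_left hs']
      exact zero_mem _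
  have hsP : algebraMap k (Polynomial K) s = 0 := by
    rw [IsScalarTower.algebraMap_apply k K (Polynomial K), hs, map_zero]
  have hfgK : ∀ i < n, ∀ z, extMap f K i (extMap g K i z) = (0 : K) • z := fun i hi z => by
    rw [extMap_comp f g (fun i => (hI i).1) K i hi z, hs]
  have hgfK : ∀ i < n, ∀ z, extMap g K i (extMap f K i z) = (0 : K) • z := fun i hi z => by
    rw [extMap_comp g f (fun i => (hI i).2) K i hi z, hs]
  have hfgP : ∀ i < n, ∀ z, extMap f (Polynomial K) i (extMap g (Polynomial K) i z) = (0 : Polynomial K) • z := fun i hi z => by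
    rw [extMap_comp f g (fun i => (hI i).1) (Polynomial K) i hi z, hsP]
  have hgfP : ∀ i < n, ∀ z, extMap g (Polynomial K) i (extMap f (Polynomial K) i z) = (0 : Polynomial K) • z := fun i hi z => by
    rw [extMap_comp g f (fun i => (hI i).2) (Polynomial K) i hi z, hsP]
  obtain ⟨κ, μ, _, _, J, c, I, x₀, y₀, u, w, hcard, hm, hV⟩ :=
    exists_normalForm (F := extMap f K) (G := extMap g K) (memF e y) (fun i hi => finrank_memF e hrd y hi)
      (fun i hi z => by rw [hfgK i hi, zero_smul]) (fun i hi z => by rw [hgfK i hi, zero_smul])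
      (hkerF hs) (hkerG hs) hIIIK
      (extMap_mem f g (e (CommAlgCat.of k K) y).2).1 (extMap_mem f g (e (CommAlgCat.of k K) y).2).2
  let ρ := (Fintype.equivFinOfCardEq hcard).symm
  let u0 : Fin r → ℕ → K ⊗[k] (Fin d → k) := fun t =>
    Sum.elim (fun t i => path (extMap f K) (extMap g K) (J t) i (c t))
      (fun m i => brk (extMap f K) (extMap g K) (I m) (x₀ m) (y₀ m) i) (ρ t)
  let α0 : Fin r → ℕ → K := fun t l => Sum.elim (fun q : κ => if J q ≤ l then (1 : K) else 0)
    (fun m : μ => if l < I m then 0 else if l = I m then 0 else 1) (ρ t)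
  let β0 : Fin r → ℕ → K := fun t l => Sum.elim (fun q : κ => if J q ≤ l then (0 : K) else 1)
    (fun m : μ => if l < I m then 1 else if l = I m then 0 else 0) (ρ t)
  have hu0 : IsChain (extMap f K) (extMap g K) n u0 α0 β0 := by
    intro t l hl
    simp only [u0, α0, β0]
    rcases ρ t with q | m
    · exact isChain_path hfgK hgfK J c q l hl
    · exact brk_apply hfgK hgfK (by rw [(hm m).2.1, zero_smul]) (by rw [(hm m).2.2.1, zero_smul]) hl
  have hind0 : ∀ l ≤ n, LinearIndependent K fun t => u0 t l := fun l hl => (hV l hl).2.comp ρ ρ.injective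
  have heq0 : ∀ l ≤ n, memF e y l = spanAt K u0 l := fun l hl => by
    rw [(hV l hl).1]
    refine congrArg (Submodule.span K) ?_
    exact (Function.Surjective.range_comp ρ.surjective _).symm
  by_cases hμ : IsEmpty μ
  · intro i hi
    have hne : ∀ t, α0 t i ≠ 0 ∨ β0 t i ≠ 0 := fun t => by
      simp only [α0, β0]
      rcases ρ t with q | q
      · simp only [Sum.elim_inl]; split_ifs <;> simp
      · exact isEmptyElim q
    rw [heq0 i hi.le, heq0 (i + 1) hi]
    exact ⟨hu0.ker_le hi (hind0 i hi.le) hne, hu0.ker_le' hi (hind0 _ hi) hne⟩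
  exfalso
  obtain ⟨m₀⟩ := not_isEmpty_iff.mp hμ
  have hsel : ∀ l, ∃ M : Matrix (Fin r) (Fin d) k, l ≤ n → IsUnit (minor M fun t => u0 t l) := fun l =>
    if h : l ≤ n then (exists_sel (k := k) (hind0 l h)).elim fun R hR => ⟨sel R, fun _ => hR.2⟩
    else ⟨0, fun h' => absurd h' h⟩
  choose M hM using hsel
  let P := Polynomial K
  let ι₀ : K →ₐ[k] P := IsScalarTower.toAlgHom k K P
  let ev : P →ₐ[k] K := (Polynomial.aeval (0 : K) : P →ₐ[K] K).restrictScalars k
  have hev : ev.comp ι₀ = AlgHom.id k K := AlgHom.ext fun a => Polynomial.aeval_C (0 : K) a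
  have hev' : ∀ z, bcM ev (bcM ι₀ z) = (z : K ⊗[k] (Fin d → k)) := fun z => by
    rw [bcM_comp, hev]
    induction z using TensorProduct.induction_on with
    | zero => simp
    | tmul a b => rfl
    | add p q hp hq => rw [map_add, hp, hq]
  let α : Fin r → ℕ → P := fun t l => Sum.elim (fun q : κ => if J q ≤ l then (1 : P) else 0)
    (fun m : μ => if l < I m then 0 else if l = I m then Polynomial.X else 1) (ρ t)
  let β : Fin r → ℕ → P := fun t l => Sum.elim (fun q : κ => if J q ≤ l then (0 : P) else 1)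
    (fun m : μ => if l < I m then 1 else 0) (ρ t)
  let v : Fin r → ℕ → P ⊗[k] (Fin d → k) := fun t =>
    Sum.elim (fun q l => path (extMap f P) (extMap g P) (J q) l (bcM ι₀ (c q)))
      (fun m l => brk (extMap f P) (extMap g P) (I m) (bcM ι₀ (x₀ m) + (Polynomial.X : P) • bcM ι₀ (u m))
        (bcM ι₀ (y₀ m)) l) (ρ t)
  have hv : IsChain (extMap f P) (extMap g P) n v α β := by
    intro t l hl
    simp only [v, α, β]
    rcases ρ t with q | m
    · exact isChain_path hfgP hgfP J (fun q => bcM ι₀ (c q)) q l hl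
    · obtain ⟨-, hxm, hym, hum, -⟩ := hm m
      have h1 := brk_apply (a := (Polynomial.X : P)) (b := 0) hfgP hgfP
        (x := bcM ι₀ (x₀ m) + (Polynomial.X : P) • bcM ι₀ (u m)) (y := bcM ι₀ (y₀ m))
        (by rw [map_add, map_smul, ← bcM_extMap, ← bcM_extMap, hxm, map_zero, zero_add, hum])
        (by rw [← bcM_extMap, hym, map_zero, zero_smul]) hl
      refine ⟨h1.1, ?_⟩
      simpa only [Sum.elim_inr, ite_self] using h1.2
  have hv0 : ∀ t l, bcM ev (v t l) = u0 t l := by
    intro t l
    simp only [v, u0]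
    rcases ρ t with q | m
    · simp only [Sum.elim_inl]
      rw [path_intertwine (bcM _) (bcM_extMap f _) (bcM_extMap g _), hev']
    · simp only [Sum.elim_inr, brk]
      split_ifs <;> rw [path_intertwine (bcM _) (bcM_extMap f _) (bcM_extMap g _)] <;>
        simp [bcM_smul, hev', show ev Polynomial.X = 0 from Polynomial.aeval_X (0 : K)]
  obtain ⟨h, hdvd, hh0⟩ : ∃ h : P, (∀ l ≤ n, (minor (M l) fun t => v t l) ∣ h) ∧ ev h ≠ 0 := by
    refine ⟨∏ l ∈ Finset.range (n + 1), minor (M l) fun t => v t l,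
      fun l hl => Finset.dvd_prod_of_mem _ (Finset.mem_range.mpr (Nat.lt_succ_of_le hl)), ?_⟩
    rw [map_prod, Finset.prod_ne_zero_iff]
    intro l hl
    rw [← minor_bcM]
    simp only [hv0]
    exact (hM l (Nat.lt_succ_iff.mp (Finset.mem_range.mp hl))).ne_zero
  have hh : h ≠ 0 := fun h' => hh0 (by rw [h', map_zero])
  let Ph := Localization.Away h
  let ι := IsScalarTower.toAlgHom k P Ph
  have hhu : IsUnit (ι h) := IsLocalization.Away.algebraMap_isUnit h
  have hunit : ∀ l ≤ n, IsUnit (minor (M l) fun t => bcM ι (v t l)) := fun l hl => by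
    rw [minor_bcM]
    exact isUnit_of_dvd_unit (map_dvd ι (hdvd l hl)) hhu
  have hvh := hv.map ι (bcM ι) (bcM_extMap f ι) (bcM_extMap g ι) (bcM_smul ι)
  obtain ⟨b, hb⟩ := exists_family e _ hvh M hunit
  let θ : Ph →ₐ[k] K := IsLocalization.liftAlgHom (M := Submonoid.powers h) (f := ev) fun q => by
    obtain ⟨_, m, rfl⟩ := q
    rw [map_pow]
    exact (isUnit_iff_ne_zero.mpr hh0).pow m
  have hθ : θ.comp ι = ev := AlgHom.ext fun q => IsLocalization.lift_eq _ q
  have hθy : GrassRep.ptAlg (A := CommAlgCat.of k K) (B := CommAlgCat.of k Ph) θ ≫ b = y := by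
    apply (e (CommAlgCat.of k K)).injective
    refine Subtype.ext (funext fun i => Grassmannian.ext ?_)
    have hi := Nat.lt_succ_iff.mp i.2
    have h1 := heq0 i hi
    have h2 := memF_eq_spanAt e hrd (GrassRep.ptAlg (A := CommAlgCat.of k K) (B := CommAlgCat.of k Ph) θ ≫ b) hi u0
      (fun t => by
        have := bcM_mem_comp e he θ b hi (hb i hi t)
        rw [bcM_comp, hθ, hv0] at this
        exact this) (hind0 i hi)
    rw [memF, extPt_eq _ hi] at h1 h2
    exact h2.trans h1.symm
  let L := FractionRing P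
  let lP : P →ₐ[k] L := IsScalarTower.toAlgHom k P L
  have hlP : Function.Injective lP := IsFractionRing.injective P L
  let l : Ph →ₐ[k] L := IsLocalization.liftAlgHom (M := Submonoid.powers h) (f := lP) fun q => by
    obtain ⟨_, m, rfl⟩ := q
    rw [map_pow]
    exact (isUnit_iff_ne_zero.mpr ((map_ne_zero_iff _ hlP).mpr hh)).pow m
  have hl : l.comp ι = lP := AlgHom.ext fun q => IsLocalization.lift_eq _ q
  have hlinj : Function.Injective l := by
    refine (IsLocalization.lift_injective_iff (M := Submonoid.powers h) (S := Ph) _).mpr fun a b => ?_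
    have hinj : Function.Injective (algebraMap P Ph) :=
      IsLocalization.injective Ph (powers_le_nonZeroDivisors_of_noZeroDivisors hh)
    exact ⟨fun hab => congrArg lP (hinj hab), fun hab => congrArg (algebraMap P Ph) (hlP hab)⟩
  obtain ⟨j, hj⟩ := hy.exists_hom b θ hθy l hlinj
  set yL := GrassRep.ptAlg (A := CommAlgCat.of k L) (B := CommAlgCat.of k K) j ≫ y with hyL
  -- the two chains at the point `yL`
  have hc1 := hu0.map j (bcM j) (bcM_extMap f j) (bcM_extMap g j) (bcM_smul j)
  have hi1 : ∀ l ≤ n, LinearIndependent L fun t => bcM j (u0 t l) := fun l hl =>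
    linearIndependent_bcM j (hind0 l hl)
  have hs1 : ∀ l ≤ n, memF e yL l = spanAt L (fun t l => bcM j (u0 t l)) l := fun l hl =>
    memF_eq_spanAt e hrd yL hl _ (fun t => bcM_mem_comp e he j y hl (by
      show u0 t l ∈ memF e y l
      rw [heq0 l hl]
      exact Submodule.subset_span ⟨t, rfl⟩)) (hi1 l hl)
  have hc2 := hv.map lP (bcM lP) (bcM_extMap f lP) (bcM_extMap g lP) (bcM_smul lP)
  have hi2 : ∀ q ≤ n, LinearIndependent L fun t => bcM lP (v t q) := fun q hq => by
    refine linearIndependent_of_minor (M q) _ ?_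
    have := (hunit q hq).map l
    rwa [← minor_bcM, show (fun t => bcM l (bcM ι (v t q))) = fun t => bcM lP (v t q) from
      funext fun t => by rw [bcM_comp, hl]] at this
  have hs2 : ∀ q ≤ n, memF e yL q = spanAt L (fun t q => bcM lP (v t q)) q := fun q hq =>
    memF_eq_spanAt e hrd yL hq _ (fun t => by
      have h3 := bcM_mem_comp e he l b hq (hb q hq t)
      rw [hj, bcM_comp, hl] at h3
      exact h3) (hi2 q hq)
  have hi := (hm m₀).1
  refine not_le_of_broken hc1 hi (hi1 _ hi) (ρ.symm (Sum.inr m₀)) (by simp [α0]) (by simp [β0]) ?_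
  rw [← hs1 _ hi, ← hs1 _ hi.le, hs2 _ hi, hs2 _ hi.le]
  refine hc2.ker_le hi (hi2 _ hi.le) fun t => ?_
  simp only [α, β]
  rcases ρ t with q | m
  · simp only [Sum.elim_inl]; split_ifs <;> simp
  · simp only [Sum.elim_inr]
    split_ifs <;> simp [map_ne_zero_iff _ hlP, Polynomial.X_ne_zero, show (Polynomial.X : P) ≠ 0 from Polynomial.X_ne_zero]

end Groth.Agent.LinkedGrass
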