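import Groth.Agent.LinkedGrass.Local

/-!
# Lifting points of the linked Grassmannian at exact points
-/

set_option autoImplicit false

universe u

noncomputable section

open TensorProduct Module

namespace Groth.Agent.LinkedGrass

open W4c1limliniiii

section Ring

variable {k : Type u} [CommRing k] {d r n : ℕ} (f g : Fin n → ((Fin d → k) →ₗ[k] (Fin d → k)))

/-- The maps, extended by zero. -/
def extMap (A : Type u) [CommRing A] [Algebra k A] (i : ℕ) :
    A ⊗[k] (Fin d → k) →ₗ[A] A ⊗[k] (Fin d → k) :=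
  if h : i < n then (f ⟨i, h⟩).baseChange A else 0

theorem extMap_val (A : Type u) [CommRing A] [Algebra k A] (i : Fin n) : extMap f A i = (f i).baseChange A := by
  simp [extMap]

theorem bcM_extMap {A B : Type u} [CommRing A] [Algebra k A] [CommRing B] [Algebra k B] (φ : A →ₐ[k] B) (i : ℕ)
    (x : A ⊗[k] (Fin d → k)) : bcM φ (extMap f A i x) = extMap f B i (bcM φ x) := by
  by_cases h : i < n
  · simp only [extMap, dif_pos h, bcM_baseChange]
  · simp [extMap, h]

theorem extMap_comp {s : k} (hfg : ∀ i, (f i).comp (g i) = s • LinearMap.id) (A : Type u) [CommRing A] [Algebra k A]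
    (i : ℕ) (hi : i < n) (x : A ⊗[k] (Fin d → k)) :
    extMap f A i (extMap g A i x) = algebraMap k A s • x := by
  simp only [extMap, dif_pos hi, algebraMap_smul]
  induction x using TensorProduct.induction_on with
  | zero => simp
  | tmul a v =>
    have h : f ⟨i, hi⟩ (g ⟨i, hi⟩ v) = s • v := LinearMap.congr_fun (hfg ⟨i, hi⟩) v
    simp [h, TensorProduct.tmul_smul]
  | add x y hx hy => simp [hx, hy]

/-- `V i`, extended. -/
def extPt {A : Type u} [CommRing A] [Algebra k A] (V : Fin (n + 1) → Grassmannian A (A ⊗[k] (Fin d → k)) (d - r))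
    (i : ℕ) : Submodule A (A ⊗[k] (Fin d → k)) :=
  if h : i ≤ n then (V ⟨i, Nat.lt_succ_of_le h⟩).toSubmodule else ⊥

theorem extPt_eq {A : Type u} [CommRing A] [Algebra k A] (V : Fin (n + 1) → Grassmannian A (A ⊗[k] (Fin d → k)) (d - r))
    {i : ℕ} (h : i ≤ n) : extPt V i = (V ⟨i, Nat.lt_succ_of_le h⟩).toSubmodule := dif_pos h

theorem extMap_mem {A : Type u} [CommRing A] [Algebra k A] {V : Fin (n + 1) → Grassmannian A (A ⊗[k] (Fin d → k)) (d - r)}
    (hV : V ∈ LGPoints k d r n f g A) :
    (∀ i < n, ∀ x ∈ extPt V i, extMap f A i x ∈ extPt V (i + 1)) ∧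
      ∀ i < n, ∀ x ∈ extPt V (i + 1), extMap g A i x ∈ extPt V i := by
  constructor <;> intro i hi x hx <;>
    rw [extPt_eq V hi.le] at * <;> rw [extPt_eq V (show i + 1 ≤ n from hi)] at * <;>
    simp only [extMap, dif_pos hi]
  · exact (hV ⟨i, hi⟩).1 ⟨x, hx, rfl⟩
  · exact (hV ⟨i, hi⟩).2 ⟨x, hx, rfl⟩

end Ring

section Field

variable {k : Type u} [Field k] {d r n : ℕ} (f g : Fin n → ((Fin d → k) →ₗ[k] (Fin d → k)))

theorem range_inf_ker_bc {h h' : (Fin d → k) →ₗ[k] (Fin d → k)} (hh : LinearMap.range h ⊓ LinearMap.ker h' = ⊥)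
    (x : k ⊗[k] (Fin d → k)) (hx : h'.baseChange k (h.baseChange k x) = 0) : h.baseChange k x = 0 := by
  have e : ∀ (l : (Fin d → k) →ₗ[k] (Fin d → k)) (y : k ⊗[k] (Fin d → k)),
      TensorProduct.lid k _ (l.baseChange k y) = l (TensorProduct.lid k _ y) := fun l y => by
    induction y using TensorProduct.induction_on with
    | zero => simp
    | tmul a v => simp
    | add y z hy hz => simp [hy, hz]
  apply (TensorProduct.lid k _).injective
  rw [map_zero, e]
  have h1 : h (TensorProduct.lid k _ x) ∈ LinearMap.range h ⊓ LinearMap.ker h' :=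
    ⟨⟨_, rfl⟩, by show h' _ = 0; rw [← e, ← e, hx, map_zero]⟩
  rw [hh] at h1
  exact (Submodule.mem_bot k).mp h1

/-- Linked points lift along surjections of local rings when the closed point is exact. -/
theorem exists_lift (hrd : r < d) {s : k}
    (hI : ∀ i, (f i).comp (g i) = s • LinearMap.id ∧ (g i).comp (f i) = s • LinearMap.id)
    (hIII : ∀ i j : Fin n, i.val + 1 = j.val → LinearMap.range (f i) ⊓ LinearMap.ker (f j) = ⊥)
    {V₀ : Fin (n + 1) → Grassmannian k (k ⊗[k] (Fin d → k)) (d - r)} (hV₀ : V₀ ∈ LGPoints k d r n f g k)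
    (hx : IsExact k d r n f g k V₀) {B' B K : Type u} [CommRing B'] [IsLocalRing B'] [Algebra k B'] [CommRing B]
    [IsLocalRing B] [Algebra k B] [Field K] [Algebra k K] (π : B' →ₐ[k] B) (hπ : Function.Surjective π)
    (ρ : B →ₐ[k] K) (hρ : Function.Surjective ρ) {V : Fin (n + 1) → Grassmannian B (B ⊗[k] (Fin d → k)) (d - r)}
    (hV : V ∈ LGPoints k d r n f g B)
    (hres : ∀ i, Grassmannian.map ρ (V i) = Grassmannian.map (Algebra.ofId k K) (V₀ i)) :
    ∃ V' : Fin (n + 1) → Grassmannian B' (B' ⊗[k] (Fin d → k)) (d - r),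
      V' ∈ LGPoints k d r n f g B' ∧ ∀ i, Grassmannian.map π (V' i) = V i := by
  haveI : FiniteDimensional k (k ⊗[k] (Fin d → k)) :=
    Module.Finite.of_basis ((Pi.basisFun k (Fin d)).baseChange k)
  have hfgk : ∀ i < n, ∀ x, extMap f k i (extMap g k i x) = s • x := extMap_comp f g (fun i => (hI i).1) k
  have hgfk : ∀ i < n, ∀ x, extMap g k i (extMap f k i x) = s • x := extMap_comp g f (fun i => (hI i).2) k
  obtain ⟨J, c, hc, hind⟩ := exists_generators (F := extMap f k) (G := extMap g k) (extPt V₀)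
    (fun i hi => by rw [extPt_eq V₀ hi]; exact finrank_toSubmodule hrd.le _)
    hfgk hgfk
    (fun i hi x hx' => by
      simp only [extMap, dif_pos (show i < n by omega), dif_pos hi] at hx' ⊢
      exact range_inf_ker_bc (hIII ⟨i, by omega⟩ ⟨i + 1, hi⟩ rfl) x hx')
    (extMap_mem f g hV₀).1 (extMap_mem f g hV₀).2
    (fun i hi => by
      rw [extPt_eq V₀ hi.le, extPt_eq V₀ (show i + 1 ≤ n from hi)]
      simp only [extMap, dif_pos hi]
      exact hx ⟨i, hi⟩)
  have hcB : ∀ t, ∃ z ∈ extPt V (J t), bcM ρ z = bcM (Algebra.ofId k K) (c t) := fun t => by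
    rw [extPt_eq V (hc t).1]
    refine exists_of_mem_map ρ hρ ?_
    rw [hres]
    refine bcM_mem_map _ ?_
    rw [← extPt_eq V₀ (hc t).1]
    exact (hc t).2
  choose z hz hzc using hcB
  choose z' hz' using fun t => bcM_surjective π hπ (z t)
  have hind' : ∀ i ≤ n, LinearIndependent K fun t =>
      bcM (ρ.comp π) (path (extMap f B') (extMap g B') (J t) i (z' t)) := fun i hi => by
    have := linearIndependent_bcM (Algebra.ofId k K) (hind i hi)
    simp only [path_intertwine (bcM (Algebra.ofId k K)) (bcM_extMap f _) (bcM_extMap g _)] at this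
    simp only [path_intertwine (bcM (ρ.comp π)) (bcM_extMap f _) (bcM_extMap g _), ← bcM_comp π ρ, hz', hzc]
    exact this
  choose N hN using fun i : Fin (n + 1) =>
    exists_grass_of_indep (ρ.comp π) (hρ.comp hπ) _ (hind' i.val (Nat.lt_succ_iff.mp i.2))
  refine ⟨N, fun i => ⟨?_, ?_⟩, fun i => ?_⟩
  · rintro _ ⟨x, hx', rfl⟩
    rw [SetLike.mem_coe, hN] at hx'
    rw [← extMap_val, hN]
    exact map_span_path_le (extMap_comp f g (fun i => (hI i).1) B') J z' i i.2 x hx'
  · rintro _ ⟨x, hx', rfl⟩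
    rw [SetLike.mem_coe, hN] at hx'
    rw [← extMap_val, hN]
    exact map_span_path_ge (extMap_comp g f (fun i => (hI i).2) B') J z' i i.2 x hx'
  · have hi : (i : ℕ) ≤ n := Nat.lt_succ_iff.mp i.2
    have hindB : LinearIndependent K fun t => bcM ρ (path (extMap f B) (extMap g B) (J t) i (z t)) := by
      have := hind' i hi
      simpa only [← bcM_comp π ρ, path_intertwine (bcM π) (bcM_extMap f _) (bcM_extMap g _), hz'] using this
    obtain ⟨W, hW⟩ := exists_grass_of_indep ρ hρ _ hindB
    have h1 : W.toSubmodule ≤ (V i).toSubmodule := by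
      rw [hW, Submodule.span_le]
      rintro _ ⟨t, rfl⟩
      have h2 := path_mem (extMap_mem f g hV).1 (extMap_mem f g hV).2 (hc t).1 hi (hz t)
      rw [extPt_eq V hi] at h2
      exact h2
    rw [← eq_of_le h1]
    refine (eq_of_le ?_).symm
    rw [hW, Submodule.span_le]
    rintro _ ⟨t, rfl⟩
    dsimp only
    rw [← hz', ← path_intertwine (bcM π) (bcM_extMap f _) (bcM_extMap g _)]
    exact bcM_mem_map π (by rw [hN]; exact Submodule.subset_span ⟨t, rfl⟩)

end Field

end Groth.Agent.LinkedGrass
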