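import Groth.Agent.LinkedGrass.Exact
import Groth.Agent.LinkedGrass.DirectSum
import Groth.Prelude.Def_W4c1limliniiiiLG

/-!
# Points of the linked Grassmannian over local rings near an exact point
-/

set_option autoImplicit false

universe u

noncomputable section

open TensorProduct Module

namespace Groth.Agent.LinkedGrass

variable {k : Type u} [CommRing k] {d r : ℕ}
variable {A B : Type u} [CommRing A] [Algebra k A] [CommRing B] [Algebra k B] (φ : A →ₐ[k] B)

/-- Change of coefficients. -/
def bcM : A ⊗[k] (Fin d → k) →ₗ[k] B ⊗[k] (Fin d → k) := φ.toLinearMap.rTensor _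

theorem bcM_tmul (a : A) (v : Fin d → k) : bcM φ (a ⊗ₜ v) = φ a ⊗ₜ v := rfl

theorem bcM_smul (a : A) (x : A ⊗[k] (Fin d → k)) : bcM φ (a • x) = φ a • bcM φ x := by
  induction x using TensorProduct.induction_on with
  | zero => simp
  | tmul b v => simp [bcM_tmul, TensorProduct.smul_tmul']
  | add x y hx hy => simp [smul_add, hx, hy]

theorem bcM_baseChange (h : (Fin d → k) →ₗ[k] (Fin d → k)) (x : A ⊗[k] (Fin d → k)) :
    bcM φ (h.baseChange A x) = h.baseChange B (bcM φ x) := by
  induction x using TensorProduct.induction_on with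
  | zero => simp
  | tmul b v => simp [bcM_tmul]
  | add x y hx hy => simp [hx, hy]

theorem bcM_comp {C : Type u} [CommRing C] [Algebra k C] (ψ : B →ₐ[k] C) (x : A ⊗[k] (Fin d → k)) :
    bcM ψ (bcM φ x) = bcM (ψ.comp φ) x := by
  induction x using TensorProduct.induction_on with
  | zero => simp
  | tmul b v => simp [bcM_tmul]
  | add x y hx hy => simp [hx, hy]

theorem bcM_surjective (hφ : Function.Surjective φ) : Function.Surjective (bcM (d := d) φ) :=
  LinearMap.rTensor_surjective _ hφ

variable {m : ℕ}

theorem bcM_mem_map {N : Grassmannian A (A ⊗[k] (Fin d → k)) m} {x : A ⊗[k] (Fin d → k)}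
    (hx : x ∈ N.toSubmodule) : bcM φ x ∈ (Grassmannian.map φ N).toSubmodule := by
  letI : Algebra A B := φ.toAlgebra
  letI : IsScalarTower k A B := IsScalarTower.of_algebraMap_eq' φ.comp_algebraMap.symm
  rw [Grassmannian.map_toSubmodule, LinearMap.mem_ker]
  suffices h : ∀ y : A ⊗[k] (Fin d → k), Grassmannian.baseChangeMkQ B N.toSubmodule (bcM φ y) =
      (1 : B) ⊗ₜ[A] N.toSubmodule.mkQ y by
    rw [h, show N.toSubmodule.mkQ x = 0 from (Submodule.Quotient.mk_eq_zero _).mpr hx, TensorProduct.tmul_zero]
  intro y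
  induction y using TensorProduct.induction_on with
  | zero => simp
  | tmul a v =>
    rw [bcM_tmul, show a ⊗ₜ[k] v = a • ((1 : A) ⊗ₜ[k] v) by rw [TensorProduct.smul_tmul', smul_eq_mul, mul_one],
      map_smul N.toSubmodule.mkQ, TensorProduct.tmul_smul, TensorProduct.smul_tmul', Algebra.smul_def, mul_one]
    simp [Grassmannian.baseChangeMkQ, RingHom.algebraMap_toAlgebra]
  | add y z hy hz => simp only [map_add, hy, hz, TensorProduct.tmul_add]

theorem exists_of_mem_map (hφ : Function.Surjective φ) {N : Grassmannian A (A ⊗[k] (Fin d → k)) m}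
    {y : B ⊗[k] (Fin d → k)} (hy : y ∈ (Grassmannian.map φ N).toSubmodule) :
    ∃ x ∈ N.toSubmodule, bcM φ x = y := by
  letI : Algebra A B := φ.toAlgebra
  letI : IsScalarTower k A B := IsScalarTower.of_algebraMap_eq' φ.comp_algebraMap.symm
  rw [Grassmannian.map_toSubmodule, LinearMap.mem_ker] at hy
  let N' : Submodule B (B ⊗[k] (Fin d → k)) :=
    { carrier := bcM φ '' N.toSubmodule
      add_mem' := by rintro _ _ ⟨a, ha, rfl⟩ ⟨b, hb, rfl⟩; exact ⟨a + b, add_mem ha hb, map_add _ _ _⟩
      zero_mem' := ⟨0, zero_mem _, map_zero _⟩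
      smul_mem' := by
        rintro c _ ⟨a, ha, rfl⟩
        obtain ⟨c, rfl⟩ := hφ c
        exact ⟨c • a, Submodule.smul_mem _ _ ha, bcM_smul φ c a⟩ }
  let bA : A ⊗[k] (Fin d → k) →ₗ[A] (B ⊗[k] (Fin d → k)) ⧸ N' :=
    { toFun := fun x => N'.mkQ (bcM φ x)
      map_add' := fun x x' => by simp
      map_smul' := fun a x => by
        rw [bcM_smul, map_smul, RingHom.id_apply, ← algebraMap_smul B a]
        rfl }
  let T : B ⊗[A] ((A ⊗[k] (Fin d → k)) ⧸ N.toSubmodule) →ₗ[B] (B ⊗[k] (Fin d → k)) ⧸ N' :=
    LinearMap.liftBaseChange B (N.toSubmodule.liftQ bA fun x hx =>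
      (Submodule.Quotient.mk_eq_zero N').mpr ⟨x, hx, rfl⟩)
  have key : ∀ z, T (Grassmannian.baseChangeMkQ B N.toSubmodule z) = N'.mkQ z := fun z => by
    induction z using TensorProduct.induction_on with
    | zero => simp
    | tmul b v =>
      simp only [Grassmannian.baseChangeMkQ, LinearMap.comp_apply, LinearEquiv.coe_coe,
        TensorProduct.AlgebraTensorModule.cancelBaseChange_symm_tmul, LinearMap.baseChange_tmul,
        Submodule.mkQ_apply, T, LinearMap.liftBaseChange_tmul, Submodule.liftQ_apply]
      show b • N'.mkQ (bcM φ (1 ⊗ₜ v)) = _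
      rw [← map_smul, bcM_tmul, map_one, TensorProduct.smul_tmul', smul_eq_mul, mul_one]
      rfl
    | add y z hy hz => simp only [map_add, hy, hz]
  obtain ⟨x, hx, hxy⟩ := (Submodule.Quotient.mk_eq_zero N').mp ((key y).symm.trans (by rw [hy, map_zero]))
  exact ⟨x, hx, hxy⟩

variable [IsLocalRing A] {K : Type u} [Field K] [Algebra k K]

theorem exists_grass_of_indep (φ : A →ₐ[k] K) (hφ : Function.Surjective φ) (w : Fin r → A ⊗[k] (Fin d → k))
    (hw : LinearIndependent K fun t => bcM φ (w t)) :
    ∃ N : Grassmannian A (A ⊗[k] (Fin d → k)) (d - r), N.toSubmodule = Submodule.span A (Set.range w) := by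
  classical
  let bA := (Pi.basisFun k (Fin d)).baseChange A
  let bK := (Pi.basisFun k (Fin d)).baseChange K
  have hb : ∀ t, bcM φ (bA t) = bK t := fun t => by simp [bA, bK, bcM_tmul]
  let L : (Fin r → A) →ₗ[A] A ⊗[k] (Fin d → k) := Fintype.linearCombination A w
  let L₀ : (Fin r → K) →ₗ[K] K ⊗[k] (Fin d → k) := Fintype.linearCombination K fun t => bcM φ (w t)
  obtain ⟨P₀, hP₀⟩ := L₀.exists_leftInverse_of_injective
    (Fintype.linearIndependent_iff.mp hw |> fun h => LinearMap.ker_eq_bot'.mpr fun c hc => funext (h c hc))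
  choose rows hrows using fun t s => hφ (P₀ (bK t) s)
  let P : A ⊗[k] (Fin d → k) →ₗ[A] (Fin r → A) := bA.constr A fun t => rows t
  have hP : ∀ x s, φ (P x s) = P₀ (bcM φ x) s := by
    intro x
    induction (bA.mem_span x) using Submodule.span_induction with
    | mem y hy => obtain ⟨t, rfl⟩ := hy; intro s; simp only [P, Basis.constr_basis, hrows, hb]
    | zero => simp
    | add y z _ _ hy hz => intro s; simp only [map_add, Pi.add_apply, hy, hz]
    | smul a y _ hy => intro s; simp only [map_smul, bcM_smul, Pi.smul_apply, smul_eq_mul, map_mul, hy]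
  let M := LinearMap.toMatrix' (P ∘ₗ L)
  have hM : φ.toRingHom.mapMatrix M = 1 := by
    ext s t
    rw [RingHom.mapMatrix_apply, Matrix.map_apply, show M s t = (P ∘ₗ L) (Pi.single t 1) s by simp [M, LinearMap.toMatrix'_apply]]
    show φ (P (L (Pi.single t 1)) s) = _
    rw [hP, show L (Pi.single t 1) = w t by simp [L, Fintype.linearCombination_apply_single]]
    have := congrFun (LinearMap.congr_fun hP₀ (Pi.single t 1)) s
    simp only [LinearMap.comp_apply, LinearMap.id_apply, L₀, Fintype.linearCombination_apply_single, one_smul] at this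
    rw [this, Matrix.one_apply, Pi.single_apply]
  have hdet : IsUnit (LinearMap.det (P ∘ₗ L)) := by
    by_contra h
    haveI : IsLocalHom φ.toRingHom := IsLocalHom.of_surjective _ hφ
    rw [← LinearMap.det_toMatrix'] at h
    refine h (isUnit_of_map_unit φ.toRingHom _ ?_)
    rw [RingHom.map_det, hM, Matrix.det_one]
    exact isUnit_one
  let e : (Fin r → A) ≃ₗ[A] (Fin r → A) := LinearEquiv.ofBijective (P ∘ₗ L) ((Module.End.isUnit_iff _).mp ((LinearMap.isUnit_iff_isUnit_det _).mpr hdet))
  let Re : A ⊗[k] (Fin d → k) →ₗ[A] (Fin r → A) := e.symm.toLinearMap ∘ₗ P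
  have hRe : ∀ c, Re (L c) = c := fun c => e.symm_apply_apply c
  let W := Submodule.span A (Set.range w)
  have hW : LinearMap.range L = W := Fintype.range_linearCombination A w
  have hc : IsCompl W (LinearMap.ker Re) := by
    constructor
    · rw [Submodule.disjoint_def]
      intro x hx hx'
      rw [← hW] at hx
      obtain ⟨c, rfl⟩ := hx
      rw [LinearMap.mem_ker, hRe] at hx'
      rw [hx', map_zero]
    · rw [codisjoint_iff, eq_top_iff]
      intro x _
      refine Submodule.mem_sup.mpr ⟨L (Re x), hW ▸ ⟨_, rfl⟩, x - L (Re x), ?_, add_sub_cancel _ _⟩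
      rw [LinearMap.mem_ker, map_sub, hRe, sub_self]
  let q := Submodule.quotientEquivOfIsCompl _ _ hc
  haveI : Module.Projective A (A ⊗[k] (Fin d → k)) := Module.Projective.of_basis bA
  haveI : Module.Finite A (A ⊗[k] (Fin d → k)) := Module.Finite.of_basis bA
  haveI hfin : Module.Finite A (LinearMap.ker Re) := Module.Finite.equiv q
  haveI hproj : Module.Projective A (LinearMap.ker Re) := Module.Projective.of_split
    (LinearMap.ker Re).subtype ((LinearMap.ker Re).projectionOnto W hc.symm)
    (LinearMap.ext fun x => Submodule.projectionOnto_apply_left hc.symm x)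
  haveI : Module.Flat A (LinearMap.ker Re) := Module.Flat.of_projective
  haveI : Module.Free A (LinearMap.ker Re) := by exact (Module.free_of_flat_of_isLocalRing (R := A) (P := ↥(LinearMap.ker Re)) :)
  haveI : Module.Projective A W := Module.Projective.of_equiv
    ((LinearEquiv.ofInjective L (Function.LeftInverse.injective hRe)).trans (LinearEquiv.ofEq _ _ hW))
  have hrk : Module.finrank A (LinearMap.ker Re) = d - r := by
    haveI : Module.Free A W := Module.Free.of_equiv
      ((LinearEquiv.ofInjective L (Function.LeftInverse.injective hRe)).trans (LinearEquiv.ofEq _ _ hW))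
    haveI : Module.Finite A W := Module.Finite.equiv
      ((LinearEquiv.ofInjective L (Function.LeftInverse.injective hRe)).trans (LinearEquiv.ofEq _ _ hW))
    have h1 := (Submodule.prodEquivOfIsCompl _ _ hc).finrank_eq
    rw [Module.finrank_prod, Module.finrank_eq_card_basis bA,
      ← ((LinearEquiv.ofInjective L (Function.LeftInverse.injective hRe)).trans (LinearEquiv.ofEq _ _ hW)).finrank_eq,
      Module.finrank_fin_fun, Fintype.card_fin] at h1
    omega
  exact ⟨{ toSubmodule := W
           finite_quotient := Module.Finite.equiv q.symm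
           projective_quotient := Module.Projective.of_equiv q.symm
           rankAtStalk_eq := fun p => by
             haveI : Module.Free A ((A ⊗[k] (Fin d → k)) ⧸ W) := Module.Free.of_equiv q.symm
             rw [Module.rankAtStalk_eq_finrank_of_free]
             exact q.finrank_eq.trans hrk }, rfl⟩

theorem linearIndependent_bcM {K L : Type u} [Field K] [Algebra k K] [Field L] [Algebra k L] (φ : K →ₐ[k] L)
    {ι : Type*} [Fintype ι] {w : ι → K ⊗[k] (Fin d → k)} (hw : LinearIndependent K w) :
    LinearIndependent L fun t => bcM φ (w t) := by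
  letI := φ.toRingHom.toAlgebra
  let bK := (Pi.basisFun k (Fin d)).baseChange K
  let bL := (Pi.basisFun k (Fin d)).baseChange L
  let E : (L ⊗[K] (K ⊗[k] (Fin d → k))) ≃ₗ[L] L ⊗[k] (Fin d → k) := (bK.baseChange L).equiv bL (Equiv.refl _)
  have hE : ∀ x, E ((1 : L) ⊗ₜ x) = bcM φ x := by
    intro x
    induction (bK.mem_span x) using Submodule.span_induction with
    | mem y hy =>
      obtain ⟨t, rfl⟩ := hy
      rw [← Basis.baseChange_apply, Basis.equiv_apply]
      simp [bK, bL, bcM_tmul]
    | zero => simp
    | add y z _ _ hy hz => simp only [TensorProduct.tmul_add, map_add, hy, hz]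
    | smul a y _ hy =>
      rw [TensorProduct.tmul_smul, ← algebraMap_smul L a, map_smul, hy, bcM_smul]
      rfl
  have h1 : LinearIndependent L fun t => (1 : L) ⊗ₜ[K] w t := by
    obtain ⟨T, hT⟩ := (Fintype.linearCombination K w).exists_leftInverse_of_injective
      (LinearMap.ker_eq_bot'.mpr fun c hc => funext (Fintype.linearIndependent_iff.mp hw c hc))
    refine LinearIndependent.of_comp (T.baseChange L) ?_
    classical
    have : (T.baseChange L ∘ fun t => (1 : L) ⊗ₜ[K] w t) = fun t => ((Pi.basisFun K ι).baseChange L) t := by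
      funext t
      have := LinearMap.congr_fun hT (Pi.single t 1)
      simp only [LinearMap.comp_apply, Fintype.linearCombination_apply_single, one_smul, LinearMap.id_apply] at this
      simp [this]
    rw [this]
    exact ((Pi.basisFun K ι).baseChange L).linearIndependent
  simpa only [← hE, LinearEquiv.coe_coe, Function.comp_def] using h1.map' E.toLinearMap E.ker

omit [IsLocalRing A] in
theorem finrank_toSubmodule (hrd : r ≤ d) (N : Grassmannian K (K ⊗[k] (Fin d → k)) (d - r)) :
    Module.finrank K N.toSubmodule = r := by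
  have h1 := N.rankAtStalk_eq ⟨⊥, Ideal.isPrime_bot⟩
  rw [Module.rankAtStalk_eq_finrank_of_free] at h1
  simp only [Pi.natCast_apply, Nat.cast_id] at h1
  have h2 := N.toSubmodule.finrank_quotient_add_finrank
  rw [Module.finrank_eq_card_basis ((Pi.basisFun k (Fin d)).baseChange K), Fintype.card_fin] at h2
  omega

end Groth.Agent.LinkedGrass
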