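import Groth.Agent.LinkedGrass.Lift
import Groth.Agent.LinkedGrass.Chain
import Mathlib.LinearAlgebra.Matrix.ToLin

/-!
# Points of Grassmannians from vectors with an invertible minor
-/

set_option autoImplicit false
set_option linter.style.haveILetI false

universe u

noncomputable section

open TensorProduct Module

namespace Groth.Agent.LinkedGrass

section Ring

variable {k : Type u} [CommRing k] {d r : ℕ}
variable {A B : Type u} [CommRing A] [Algebra k A] [CommRing B] [Algebra k B]

/-- The coordinates of vectors. -/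
def crd (w : Fin r → A ⊗[k] (Fin d → k)) : Matrix (Fin d) (Fin r) A :=
  Matrix.of fun j t => ((Pi.basisFun k (Fin d)).baseChange A).repr (w t) j

/-- A fixed combination of the maximal minors. -/
def minor (M : Matrix (Fin r) (Fin d) k) (w : Fin r → A ⊗[k] (Fin d → k)) : A :=
  (M.map (algebraMap k A) * crd w).det

theorem repr_bcM (φ : A →ₐ[k] B) (x : A ⊗[k] (Fin d → k)) (j : Fin d) :
    ((Pi.basisFun k (Fin d)).baseChange B).repr (bcM φ x) j = φ (((Pi.basisFun k (Fin d)).baseChange A).repr x j) := by
  induction x using TensorProduct.induction_on with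
  | zero => simp
  | tmul a v => simp [bcM_tmul]
  | add x y hx hy => simp [hx, hy]

theorem minor_bcM (φ : A →ₐ[k] B) (M : Matrix (Fin r) (Fin d) k) (w : Fin r → A ⊗[k] (Fin d → k)) :
    minor M (fun t => bcM φ (w t)) = φ (minor M w) := by
  show _ = φ.toRingHom _
  rw [minor, minor, RingHom.map_det, RingHom.mapMatrix_apply, Matrix.map_mul, Matrix.map_map]
  congr 2
  · ext i j
    exact (φ.commutes _).symm
  · ext j t
    exact repr_bcM φ (w t) j

theorem minor_apply_retract (M : Matrix (Fin r) (Fin d) k) (w : Fin r → A ⊗[k] (Fin d → k)) (h : IsUnit (minor M w)) :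
    ∃ Re : A ⊗[k] (Fin d → k) →ₗ[A] (Fin r → A), ∀ c : Fin r → A, Re (∑ t, c t • w t) = c := by
  set N := M.map (algebraMap k A) * crd w with hN
  refine ⟨N⁻¹.mulVecLin ∘ₗ (M.map (algebraMap k A)).mulVecLin ∘ₗ
    ((Pi.basisFun k (Fin d)).baseChange A).equivFun.toLinearMap, fun c => ?_⟩
  have : ((Pi.basisFun k (Fin d)).baseChange A).equivFun (∑ t, c t • w t) = (crd w).mulVec c := by
    ext j
    simp [crd, Matrix.mulVec, dotProduct, map_sum, Finset.sum_apply, mul_comm]
  show N⁻¹.mulVec ((M.map (algebraMap k A)).mulVec (((Pi.basisFun k (Fin d)).baseChange A).equivFun _)) = c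
  rw [this, Matrix.mulVec_mulVec, Matrix.mulVec_mulVec, Matrix.mul_assoc, ← hN, Matrix.nonsing_inv_mul N h,
    Matrix.one_mulVec]

theorem linearIndependent_of_minor (M : Matrix (Fin r) (Fin d) k) (w : Fin r → A ⊗[k] (Fin d → k))
    (h : IsUnit (minor M w)) : LinearIndependent A w := by
  obtain ⟨Re, hRe⟩ := minor_apply_retract M w h
  refine Fintype.linearIndependent_iff.mpr fun c hc t => ?_
  have := congrFun (hRe c) t
  rw [hc, map_zero] at this
  exact this.symm

theorem exists_grass_of_minor (M : Matrix (Fin r) (Fin d) k) (w : Fin r → A ⊗[k] (Fin d → k))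
    (h : IsUnit (minor M w)) :
    ∃ N : Grassmannian A (A ⊗[k] (Fin d → k)) (d - r), N.toSubmodule = Submodule.span A (Set.range w) := by
  classical
  obtain ⟨Re, hRe⟩ := minor_apply_retract M w h
  let bA := (Pi.basisFun k (Fin d)).baseChange A
  let L : (Fin r → A) →ₗ[A] A ⊗[k] (Fin d → k) := Fintype.linearCombination A w
  have hReL : ∀ c, Re (L c) = c := fun c => by rw [show L c = ∑ t, c t • w t from Fintype.linearCombination_apply _ _ _, hRe]
  let W := Submodule.span A (Set.range w)
  have hW : LinearMap.range L = W := Fintype.range_linearCombination A w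
  have hc : IsCompl W (LinearMap.ker Re) := by
    constructor
    · rw [Submodule.disjoint_def]
      intro x hx hx'
      rw [← hW] at hx
      obtain ⟨c, rfl⟩ := hx
      rw [LinearMap.mem_ker, hReL] at hx'
      rw [hx', map_zero]
    · rw [codisjoint_iff, eq_top_iff]
      intro x _
      refine Submodule.mem_sup.mpr ⟨L (Re x), hW ▸ ⟨_, rfl⟩, x - L (Re x), ?_, add_sub_cancel _ _⟩
      rw [LinearMap.mem_ker, map_sub, hReL, sub_self]
  let q := Submodule.quotientEquivOfIsCompl _ _ hc
  let eL := (LinearEquiv.ofInjective L (Function.LeftInverse.injective hReL)).trans (LinearEquiv.ofEq _ _ hW)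
  haveI : Module.Projective A (A ⊗[k] (Fin d → k)) := Module.Projective.of_basis bA
  haveI : Module.Finite A (A ⊗[k] (Fin d → k)) := Module.Finite.of_basis bA
  haveI hfin : Module.Finite A (LinearMap.ker Re) := Module.Finite.equiv q
  haveI hproj : Module.Projective A (LinearMap.ker Re) := Module.Projective.of_split
    (LinearMap.ker Re).subtype ((LinearMap.ker Re).projectionOnto W hc.symm)
    (LinearMap.ext fun x => Submodule.projectionOnto_apply_left hc.symm x)
  haveI : Module.Finite A ((A ⊗[k] (Fin d → k)) ⧸ W) := Module.Finite.equiv q.symm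
  haveI : Module.Projective A ((A ⊗[k] (Fin d → k)) ⧸ W) := Module.Projective.of_equiv q.symm
  haveI : Module.Flat A ((A ⊗[k] (Fin d → k)) ⧸ W) := Module.Flat.of_projective
  refine ⟨{ toSubmodule := W
            finite_quotient := inferInstance
            projective_quotient := inferInstance
            rankAtStalk_eq := fun p => ?_ }, rfl⟩
  haveI : Nontrivial A := p.nontrivial
  haveI : Module.Flat A (A ⊗[k] (Fin d → k)) := Module.Flat.of_projective
  let e : ((Fin r → A) × ((A ⊗[k] (Fin d → k)) ⧸ W)) ≃ₗ[A] A ⊗[k] (Fin d → k) :=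
    (LinearEquiv.prodCongr eL q).trans (Submodule.prodEquivOfIsCompl _ _ hc)
  have h1 := congrFun (Module.rankAtStalk_eq_of_equiv e) p
  haveI : Module.Free A (A ⊗[k] (Fin d → k)) := Module.Free.of_basis bA
  rw [Module.rankAtStalk_prod, Pi.add_apply, Module.rankAtStalk_eq_finrank_of_free (M := Fin r → A),
    Module.rankAtStalk_eq_finrank_of_free (M := A ⊗[k] (Fin d → k))] at h1
  simp only [Pi.natCast_apply, Nat.cast_id] at h1
  rw [Module.finrank_fin_fun, Module.finrank_eq_card_basis bA, Fintype.card_fin] at h1
  omega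

end Ring

section Field

variable {k : Type u} [Field k] {d r : ℕ}

theorem exists_minor (w : Fin r → k ⊗[k] (Fin d → k)) (h : LinearIndependent k w) :
    ∃ M : Matrix (Fin r) (Fin d) k, minor M w = 1 := by
  obtain ⟨P, hP⟩ := (Fintype.linearCombination k w).exists_leftInverse_of_injective
    (LinearMap.ker_eq_bot'.mpr fun c hc => funext (Fintype.linearIndependent_iff.mp h c hc))
  classical
  refine ⟨LinearMap.toMatrix ((Pi.basisFun k (Fin d)).baseChange k) (Pi.basisFun k (Fin r)) P, ?_⟩
  suffices e : LinearMap.toMatrix ((Pi.basisFun k (Fin d)).baseChange k) (Pi.basisFun k (Fin r)) P * crd w = 1 by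
    rw [minor, Algebra.algebraMap_self, RingHom.coe_id, Matrix.map_id, e, Matrix.det_one]
  have hc : crd w = LinearMap.toMatrix (Pi.basisFun k (Fin r)) ((Pi.basisFun k (Fin d)).baseChange k)
      (Fintype.linearCombination k w) := by
    ext j t
    simp [crd, LinearMap.toMatrix_apply, Fintype.linearCombination_apply_single]
  rw [hc, ← LinearMap.toMatrix_comp, hP, LinearMap.toMatrix_id]

end Field

end Groth.Agent.LinkedGrass
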