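import Groth.Agent.LinkedGrass.Points
import Mathlib.AlgebraicGeometry.AlgClosed.Basic
import Mathlib.RingTheory.Localization.Away.Basic
import Mathlib.RingTheory.MvPolynomial.Basic

/-!
# Neighbourhoods of exact points
-/

set_option autoImplicit false
set_option backward.isDefEq.respectTransparency false
set_option linter.style.haveILetI false

universe u

noncomputable section

open CategoryTheory AlgebraicGeometry TensorProduct Module

namespace Groth.Agent.LinkedGrass

open W4c1limliniiii GrassClosed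

variable {k : Type u} [Field k] {X : Over (Spec (CommRingCat.of k))}

theorem exists_kpt [IsAlgClosed k] [LocallyOfFiniteType X.hom] {S : Set X.left} (hS : IsLocallyClosed S)
    (hne : S.Nonempty) : ∃ y : KPt X, y.base ∈ S := by
  haveI := LocallyOfFiniteType.jacobsonSpace X.hom
  obtain ⟨p, hp, hpc⟩ := nonempty_inter_closedPoints hne hS
  let q := (pointEquivClosedPoint X.hom).symm ⟨p, hpc⟩
  refine ⟨Over.homMk q.1 (q.2.trans ?_), ?_⟩
  · show 𝟙 _ = Spec.map (CommRingCat.ofHom (algebraMap k k))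
    rw [Algebra.algebraMap_self]
    exact (Spec.map_id _).symm
  · show q.1 (IsLocalRing.closedPoint k) ∈ S
    have : ((pointEquivClosedPoint X.hom) q).1 = p := by
      rw [Equiv.apply_symm_apply]
    rw [← this] at hp
    exact hp

variable {A : Type u} [CommRing A] [Algebra k A]

/-- The prime of the value at a rational point. -/
theorem base_evalPt (a : SpA (CommAlgCat.of k A) ⟶ X) (χ : A →ₐ[k] k) :
    (evalPt a χ).base = a.left (PrimeSpectrum.comap χ.toRingHom (IsLocalRing.closedPoint k)) := rfl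

theorem comap_closedPoint_notMem (χ : A →ₐ[k] k) (x : A) :
    x ∉ (PrimeSpectrum.comap χ.toRingHom (IsLocalRing.closedPoint k)).asIdeal ↔ χ x ≠ 0 := by
  rw [PrimeSpectrum.comap_asIdeal, Ideal.mem_comap]
  show χ x ∉ IsLocalRing.maximalIdeal k ↔ _
  rw [IsLocalRing.maximalIdeal_eq_bot, Submodule.mem_bot]

variable {d r n : ℕ} {f g : Fin n → ((Fin d → k) →ₗ[k] (Fin d → k))}
  (e : ∀ A : CommAlgCat.{u} k, (SpA A ⟶ X) ≃ LGPoints k d r n f g A)
  (he : ∀ (A B : CommAlgCat.{u} k) (φ : A ⟶ B) (x : SpA A ⟶ X) (x' : SpA B ⟶ X),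
    x'.left = Spec.map (CommRingCat.ofHom φ.hom.toRingHom) ≫ x.left →
      ∀ i, (e B x').1 i = Module.Grassmannian.map φ.hom ((e A x).1 i))

set_option maxHeartbeats 1600000 in
include he in
/-- Near an exact point all rational points are exact, with the same ranks, and in one irreducible set. -/
theorem exists_nhd [IsAlgClosed k] (hrd : r < d) {s : k}
    (hI : ∀ i, (f i).comp (g i) = s • LinearMap.id ∧ (g i).comp (f i) = s • LinearMap.id)
    (hIII : ∀ i j : Fin n, i.val + 1 = j.val → LinearMap.range (f i) ⊓ LinearMap.ker (f j) = ⊥)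
    (x : KPt X) (hx : Ex e x) :
    ∃ W : X.left.Opens, x.base ∈ W ∧ (∀ y : KPt X, y.base ∈ W → Ex e y ∧ vec e y = vec e x) ∧
      ∃ S : Set X.left, IsIrreducible S ∧ IsClosed S ∧ (W : Set X.left) ⊆ S := by
  classical
  haveI := locallyOfFinitePresentation e he
  haveI : LocallyOfFiniteType X.hom := inferInstance
  haveI : FiniteDimensional k (k ⊗[k] (Fin d → k)) :=
    Module.Finite.of_basis ((Pi.basisFun k (Fin d)).baseChange k)
  have hfg : ∀ (R : Type u) [CommRing R] [Algebra k R], ∀ i < n, ∀ z,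
      extMap f R i (extMap g R i z) = algebraMap k R s • z := fun R => extMap_comp f g (fun i => (hI i).1) R
  have hgf : ∀ (R : Type u) [CommRing R] [Algebra k R], ∀ i < n, ∀ z,
      extMap g R i (extMap f R i z) = algebraMap k R s • z := fun R => extMap_comp g f (fun i => (hI i).2) R
  have hx' := (ex_iff e x).mp hx
  obtain ⟨J, c, hc, hind⟩ := exists_generators (F := extMap f k) (G := extMap g k) (mem' e x)
    (fun i hi => finrank_mem' e hrd x hi) (hfg k) (hgf k)
    (fun i hi z hz => by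
      simp only [extMap, dif_pos (show i < n by omega), dif_pos hi] at hz ⊢
      exact range_inf_ker_bc (hIII ⟨i, by omega⟩ ⟨i + 1, hi⟩ rfl) z hz)
    (extMap_mem f g (e (CommAlgCat.of k k) x).2).1 (extMap_mem f g (e (CommAlgCat.of k k) x).2).2 hx'
  choose M hM using fun l : ℕ => show ∃ M : Matrix (Fin r) (Fin d) k, l ≤ n →
      minor M (fun t => path (extMap f k) (extMap g k) (J t) l (c t)) = 1 from
    if h : l ≤ n then (exists_minor _ (hind l h)).imp fun _ hM _ => hM else ⟨0, fun h' => absurd h' h⟩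
  obtain ⟨_, ⟨U, hU, rfl⟩, hxU, -⟩ :=
    X.left.isBasis_affineOpens.exists_subset_of_mem_open (Set.mem_univ x.base) isOpen_univ
  letI : Algebra k Γ(X.left, U) := (Spec.preimage (hU.fromSpec ≫ X.hom)).hom.toAlgebra
  let a : SpA (CommAlgCat.of k Γ(X.left, U)) ⟶ X := ptOf hU.fromSpec
  have hfac : ∀ y : KPt X, y.base ∈ U → ∃ χ : Γ(X.left, U) →ₐ[k] k, evalPt a χ = y := by
    intro y hy
    have hr : Set.range y.left ⊆ Set.range hU.fromSpec := by
      rw [hU.range_fromSpec]
      exact (KPt.range_eq y).le.trans (Set.singleton_subset_iff.mpr hy)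
    obtain ⟨φ, hφ⟩ := exists_algHom a y (IsOpenImmersion.lift hU.fromSpec y.left hr) (IsOpenImmersion.lift_fac _ _ _)
    refine ⟨φ.hom, Over.OverMorphism.ext ?_⟩
    show Spec.map _ ≫ hU.fromSpec = y.left
    rw [hφ, IsOpenImmersion.lift_fac]
  obtain ⟨χ₀, hχ₀⟩ := hfac x hxU
  have hsurj : Function.Surjective χ₀ := fun q => ⟨algebraMap k _ q, χ₀.commutes q⟩
  have hz : ∀ t, ∃ z ∈ extPt (e (CommAlgCat.of k Γ(X.left, U)) a).1 (J t), bcM χ₀ z = c t := fun t => by
    rw [extPt_eq _ (hc t).1]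
    refine exists_of_mem_map χ₀ hsurj ?_
    rw [← e_comp e he (A := CommAlgCat.of k Γ(X.left, U)) (B := CommAlgCat.of k k) χ₀ a]
    have h2 := (hc t).2
    rw [← hχ₀, mem', extPt_eq _ (hc t).1] at h2
    exact h2
  choose z hz hzc using hz
  let v : Fin r → ℕ → Γ(X.left, U) ⊗[k] (Fin d → k) := fun t l =>
    path (extMap f _) (extMap g _) (J t) l (z t)
  have hv := isChain_path (hfg Γ(X.left, U)) (hgf Γ(X.left, U)) J z
  have hvmem : ∀ l ≤ n, ∀ t, v t l ∈ extPt (e (CommAlgCat.of k Γ(X.left, U)) a).1 l := fun l hl t =>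
    path_mem (extMap_mem f g (e _ a).2).1 (extMap_mem f g (e _ a).2).2 (hc t).1 hl (hz t)
  let h : Γ(X.left, U) := ∏ l ∈ Finset.range (n + 1), minor (M l) fun t => v t l
  have hh : ∀ χ : Γ(X.left, U) →ₐ[k] k, χ h ≠ 0 → ∀ l ≤ n, χ (minor (M l) fun t => v t l) ≠ 0 := by
    intro χ hχ l hl
    rw [map_prod, Finset.prod_ne_zero_iff] at hχ
    exact hχ l (Finset.mem_range.mpr (Nat.lt_succ_of_le hl))
  have hh₀ : χ₀ h ≠ 0 := by
    rw [map_prod, Finset.prod_ne_zero_iff]
    intro l hl
    have hl' : l ≤ n := Nat.lt_succ_iff.mp (Finset.mem_range.mp hl)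
    rw [← minor_bcM]
    simp only [v, path_intertwine (bcM χ₀) (bcM_extMap f _) (bcM_extMap g _), hzc, hM l hl']
    exact one_ne_zero
  have hbo : ∀ χ : Γ(X.left, U) →ₐ[k] k, (evalPt a χ).base ∈ X.left.basicOpen h ↔ χ h ≠ 0 := by
    intro χ
    rw [← comap_closedPoint_notMem, ← PrimeSpectrum.mem_basicOpen, ← hU.fromSpec_preimage_basicOpen]
    rfl
  refine ⟨X.left.basicOpen h, ?_, ?_, ?_⟩
  · rw [← hχ₀, hbo]; exact hh₀
  · intro y hy
    obtain ⟨χ, rfl⟩ := hfac y (X.left.basicOpen_le h hy)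
    have hχ := hh χ ((hbo χ).mp hy)
    obtain ⟨hch, hsp⟩ := exists_chain_at e he hrd a v hv M hvmem χ hχ
    obtain ⟨hch₀, hsp₀⟩ := exists_chain_at e he hrd a v hv M hvmem χ₀ (hh χ₀ hh₀)
    obtain ⟨hex, hvec⟩ := ex_and_vec e _ _ hch (fun l hl => (hsp l hl).1) (fun l hl => (hsp l hl).2)
    obtain ⟨-, hvec₀⟩ := ex_and_vec e _ _ hch₀ (fun l hl => (hsp₀ l hl).1) (fun l hl => (hsp₀ l hl).2)
    refine ⟨hex fun t i _ => ?_, funext fun i => ?_⟩
    · by_cases hj : J t ≤ i <;> simp [hj]
    · rw [hvec i, ← hχ₀, hvec₀ i]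
      congr! 4 with t
      split_ifs <;> simp
  -- the parametrisation
  let bA := (Pi.basisFun k (Fin d)).baseChange (MvPolynomial (Fin r × Fin d) k)
  let cu : Fin r → MvPolynomial (Fin r × Fin d) k ⊗[k] (Fin d → k) := fun t => ∑ j, (MvPolynomial.X (t, j) : MvPolynomial (Fin r × Fin d) k) • bA j
  let hB : MvPolynomial (Fin r × Fin d) k :=
    ∏ l ∈ Finset.range (n + 1), minor (M l) fun t => path (extMap f _) (extMap g _) (J t) l (cu t)
  let θ : (Γ(X.left, U) →ₐ[k] k) → (MvPolynomial (Fin r × Fin d) k →ₐ[k] k) := fun χ =>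
    MvPolynomial.aeval fun tj => ((Pi.basisFun k (Fin d)).baseChange k).repr (bcM χ (z tj.1)) tj.2
  have hθc : ∀ χ t, bcM (θ χ) (cu t) = bcM χ (z t) := by
    intro χ t
    apply ((Pi.basisFun k (Fin d)).baseChange k).ext_elem
    intro j
    rw [repr_bcM (θ χ)]
    simp only [cu, bA, map_sum, map_smul, Basis.repr_self, Finsupp.coe_finset_sum, Finset.sum_apply,
      Finsupp.smul_apply, Finsupp.single_apply, smul_eq_mul, mul_ite, mul_one, mul_zero, Finset.sum_ite_eq',
      Finset.mem_univ, if_true]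
    exact MvPolynomial.aeval_X _ _
  have hθh : ∀ χ, θ χ hB = χ h := by
    intro χ
    simp only [hB, h, v, map_prod, ← minor_bcM, path_intertwine (bcM (θ χ)) (bcM_extMap f _) (bcM_extMap g _),
      path_intertwine (bcM χ) (bcM_extMap f _) (bcM_extMap g _), hθc]
  have hdvd : ∀ l ≤ n, (minor (M l) fun t => path (extMap f (MvPolynomial (Fin r × Fin d) k))
      (extMap g (MvPolynomial (Fin r × Fin d) k)) (J t) l (cu t)) ∣ hB := fun l hl =>
    Finset.dvd_prod_of_mem _ (Finset.mem_range.mpr (Nat.lt_succ_of_le hl))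
  clear_value hB
  have hB0 : hB ≠ 0 := fun h0 => hh₀ (by rw [← hθh, h0, map_zero])
  let Bh := Localization.Away hB
  let ι := IsScalarTower.toAlgHom k (MvPolynomial (Fin r × Fin d) k) Bh
  have hBu : IsUnit (ι hB) := IsLocalization.Away.algebraMap_isUnit hB
  have hunit : ∀ l ≤ n, IsUnit (minor (M l) fun t => path (extMap f Bh) (extMap g Bh) (J t) l (bcM ι (cu t))) := by
    intro l hl
    simp only [← path_intertwine (bcM ι) (bcM_extMap f _) (bcM_extMap g _), minor_bcM]
    exact isUnit_of_dvd_unit (map_dvd ι (hdvd l hl)) hBu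
  have hvB := isChain_path (hfg Bh) (hgf Bh) J fun t => bcM ι (cu t)
  obtain ⟨b, hb⟩ := exists_family e _ hvB M hunit
  refine ⟨closure (Set.range b.left.base), ?_, isClosed_closure, ?_⟩
  · haveI : IsDomain Bh := IsLocalization.isDomain_localization
      (powers_le_nonZeroDivisors_of_noZeroDivisors hB0)
    haveI : IrreducibleSpace (PrimeSpectrum Bh) := inferInstance
    rw [← Set.image_univ]
    exact ((IrreducibleSpace.isIrreducible_univ (X := PrimeSpectrum Bh)).image _ b.left.base.hom.continuous.continuousOn).closure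
  · intro p hp
    by_contra hp'
    obtain ⟨y, hy₁, hy₂⟩ := exists_kpt (X := X)
      ((X.left.basicOpen h).2.inter isClosed_closure.isOpen_compl).isLocallyClosed ⟨p, hp, hp'⟩
    obtain ⟨χ, rfl⟩ := hfac y (X.left.basicOpen_le h hy₁)
    refine hy₂ (subset_closure ?_)
    have hχ := (hbo χ).mp hy₁
    let θ' : Bh →ₐ[k] k := IsLocalization.liftAlgHom (M := Submonoid.powers hB) (f := θ χ) fun q => by
      obtain ⟨_, m, rfl⟩ := q
      rw [map_pow]
      exact (isUnit_iff_ne_zero.mpr (hθh χ ▸ hχ)).pow m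
    have hθ' : θ'.comp ι = θ χ := AlgHom.ext fun q => IsLocalization.lift_eq _ q
    have hθ'c : ∀ l t, bcM θ' (path (extMap f Bh) (extMap g Bh) (J t) l (bcM ι (cu t))) = bcM χ (v t l) := fun l t => by
      rw [path_intertwine (bcM θ') (bcM_extMap f _) (bcM_extMap g _), bcM_comp, hθ', hθc]
      exact (path_intertwine (bcM χ) (bcM_extMap f _) (bcM_extMap g _) _ _ _).symm
    obtain ⟨-, hsp⟩ := exists_chain_at e he hrd a v hv M hvmem χ (hh χ hχ)
    obtain ⟨-, hsp'⟩ := exists_chain_at e he hrd b _ hvB M hb θ' fun l hl => ((hunit l hl).map θ').ne_zero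
    have heq : evalPt b θ' = evalPt a χ := by
      apply (e (CommAlgCat.of k k)).injective
      refine Subtype.ext (funext fun i => Grassmannian.ext ?_)
      have hi := Nat.lt_succ_iff.mp i.2
      have h1 := (hsp i hi).2
      have h2 := (hsp' i hi).2
      rw [mem', extPt_eq _ hi] at h1 h2
      rw [h1, h2]
      simp only [spanAt, hθ'c]
    rw [← heq]
    exact ⟨_, rfl⟩

end Groth.Agent.LinkedGrass
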