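import Mathlib
import Groth.Prelude.Def_W4c1limliniiiiLG
import Groth.Agent.LinkedGrass.DirectSum
import Groth.Agent.GrassPlucker.Final
import Groth.Agent.HQProj.Basic

/-! The linked Grassmannian is representable by a proper scheme. -/

set_option autoImplicit false

universe u

noncomputable section

open TensorProduct CategoryTheory CategoryTheory.Limits AlgebraicGeometry Module
open Module.Grassmannian

namespace Groth.Agent.LinkedGrass

open GrassClosed GrassRep GrassPlucker

variable {R : Type u} [CommRing R]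

theorem isProper_grassSch {n k : ℕ} (h : k ≤ n) : IsProper (grassSch R n k).hom := by
  obtain ⟨F⟩ := nonempty_frame h
  obtain ⟨c, hc, hcb⟩ := exists_plucker (R := R) F
  haveI := hc
  haveI := Groth.Agent.HQProj.isProper_toBase.{u} (n.choose k - 1) (Spec (CommRingCat.of R))
  rw [← hcb]
  infer_instance

/-- Finite powers over the base. -/
theorem exists_power (G : Over (Spec (CommRingCat.of R))) [IsProper G.hom] : ∀ m : ℕ,
    ∃ (P : Over (Spec (CommRingCat.of R))) (p : Fin m → (P ⟶ G)), IsProper P.hom ∧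
      ∀ A : CommAlgCat.{u} R, Function.Bijective fun (g : SpA A ⟶ P) i => g ≫ p i
  | 0 => by
    refine ⟨Over.mk (𝟙 _), fun i => i.elim0, inferInstanceAs (IsProper (𝟙 (Spec (CommRingCat.of R)))), fun A => ?_⟩
    refine ⟨fun g g' _ => Over.OverMorphism.ext ?_, fun x => ⟨Over.homMk _ (Category.comp_id _), funext fun i => i.elim0⟩⟩
    exact ((Category.comp_id g.left).symm.trans (Over.w g)).trans ((Over.w g').symm.trans (Category.comp_id _))
  | m + 1 => by
    obtain ⟨P, p, hP, hb⟩ := exists_power G m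
    let P' : Over (Spec (CommRingCat.of R)) := Over.mk (pullback.fst P.hom G.hom ≫ P.hom)
    let q : P' ⟶ P := Over.homMk (pullback.fst _ _) rfl
    let r : P' ⟶ G := Over.homMk (pullback.snd _ _) pullback.condition.symm
    refine ⟨P', Fin.snoc (fun i => q ≫ p i) r, inferInstanceAs (IsProper (pullback.fst P.hom G.hom ≫ P.hom)),
      fun A => ⟨fun g g' h => ?_, fun x => ?_⟩⟩
    · refine Over.OverMorphism.ext (pullback.hom_ext ?_ ?_)
      · refine congrArg CommaMorphism.left ((hb A).1 (funext fun i => ?_) : g ≫ q = g' ≫ q)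
        simpa using congrFun h i.castSucc
      · have h' := congrFun h (Fin.last m)
        simp only [Fin.snoc_last] at h'
        exact congrArg CommaMorphism.left h'
    · obtain ⟨g₁, hg₁⟩ := (hb A).2 fun i => x i.castSucc
      have hw : g₁.left ≫ P.hom = (x (Fin.last m)).left ≫ G.hom := (Over.w g₁).trans (Over.w _).symm
      refine ⟨Over.homMk (pullback.lift _ _ hw) (by
        show pullback.lift _ _ hw ≫ pullback.fst _ _ ≫ P.hom = _
        rw [pullback.lift_fst_assoc]
        exact Over.w g₁), funext fun i => ?_⟩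
      refine Fin.lastCases ?_ (fun i => ?_) i
      · simp only [Fin.snoc_last]
        exact Over.OverMorphism.ext (pullback.lift_snd _ _ _)
      · simp only [Fin.snoc_castSucc]
        rw [← Category.assoc, ← congrFun hg₁ i]
        congr 1
        exact Over.OverMorphism.ext (pullback.lift_fst _ _ _)

/-- The linked Grassmannian. -/
theorem exists_linked (d r n : ℕ) (f g : Fin n → ((Fin d → R) →ₗ[R] (Fin d → R))) :
    ∃ (X : Over (Spec (CommRingCat.of R)))
      (e : ∀ A : CommAlgCat.{u} R, (SpA A ⟶ X) ≃ W4c1limliniiii.LGPoints R d r n f g A),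
      (∀ (A B : CommAlgCat.{u} R) (φ : A ⟶ B) (x : SpA A ⟶ X) (x' : SpA B ⟶ X),
        x'.left = Spec.map (CommRingCat.ofHom φ.hom.toRingHom) ≫ x.left →
          ∀ i, (e B x').1 i = Module.Grassmannian.map φ.hom ((e A x).1 i)) ∧
      IsProper X.hom := by
  haveI := isProper_grassSch (R := R) (n := d) (k := d - r) (Nat.sub_le d r)
  obtain ⟨P, p, hP, hb⟩ := exists_power (grassSch R d (d - r)) (n + 1)
  let V : ∀ (A : CommAlgCat.{u} R) (z : SpA A ⟶ P), Fin (n + 1) → G(d - r, A ⊗[R] (Fin d → R); A) :=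
    fun A z i => pointsEquiv R d (d - r) A (z ≫ p i)
  have hV : ∀ (A B : CommAlgCat.{u} R) (φ : A ⟶ B) (z : SpA A ⟶ P) (z' : SpA B ⟶ P),
      z'.left = Spec.map (CommRingCat.ofHom φ.hom.toRingHom) ≫ z.left →
      ∀ i, V B z' i = Module.Grassmannian.map φ.hom (V A z i) := fun A B φ z z' h i =>
    pointsEquiv_natural A B φ (z ≫ p i) (z' ≫ p i) (by
      rw [Over.comp_left, Over.comp_left, h]; exact Category.assoc _ _ _)
  obtain ⟨W, eW, hW⟩ := exists_representing (R := R) (Fin (n + 1) → Fin d → R) ((n + 1) * (d - r))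
  obtain ⟨s, hs⟩ := exists_hom_of_points (Y := P) (X := W) (fun A z => (eW A).symm (sumPt (V A z))) fun A B φ z z' h => by
    let w : SpA B ⟶ W := ptAlg φ.hom ≫ (eW A).symm (sumPt (V A z))
    have : (eW B).symm (sumPt (V B z')) = w := by
      rw [Equiv.symm_apply_eq, hW A B φ ((eW A).symm (sumPt (V A z))) w rfl, Equiv.apply_symm_apply]
      refine Eq.trans ?_ (map_sumPt φ.hom (V A z)).symm
      exact congrArg sumPt (funext (hV A B φ z z' h))
    rw [this]
    rfl
  let ψ : ULift.{u} (Fin n ⊕ Fin n) → ((Fin (n + 1) → Fin d → R) →ₗ[R] (Fin (n + 1) → Fin d → R)) := fun i =>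
    Sum.elim (fun j => link j.castSucc j.succ (f j)) (fun j => link j.succ j.castSucc (g j)) i.down
  obtain ⟨Z, ι, hι, hZ⟩ := exists_closed eW hW ψ ∅
  haveI := hι
  haveI := hP
  let X : Over (Spec (CommRingCat.of R)) := Over.mk (pullback.snd ι s.left ≫ P.hom)
  let io : X ⟶ P := Over.homMk (pullback.snd _ _) rfl
  have hXP : IsProper X.hom := inferInstanceAs (IsProper (pullback.snd ι s.left ≫ P.hom))
  have hiff : ∀ (A : CommAlgCat.{u} R) (z : SpA A ⟶ P),
      (∃ h : (SpA A).left ⟶ X.left, h ≫ io.left = z.left) ↔ V A z ∈ W4c1limliniiii.LGPoints R d r n f g A := by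
    intro A z
    have h1 : (∃ h : (SpA A).left ⟶ X.left, h ≫ io.left = z.left) ↔
        ∃ h : (SpA A).left ⟶ Z, h ≫ ι = (z ≫ s).left := by
      constructor
      · rintro ⟨h, hh⟩
        refine ⟨h ≫ pullback.fst ι s.left, ?_⟩
        rw [Category.assoc, pullback.condition, ← Category.assoc]
        exact congrArg (fun q => q ≫ s.left) hh
      · rintro ⟨h, hh⟩
        exact ⟨pullback.lift h z.left hh, pullback.lift_snd _ _ _⟩
    rw [h1, hZ, hs, Equiv.apply_symm_apply]
    constructor
    · intro h i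
      exact ⟨(link_stable_iff _ _ _ _).1 (h.1 ⟨Sum.inl i⟩), (link_stable_iff _ _ _ _).1 (h.1 ⟨Sum.inr i⟩)⟩
    · intro h
      refine ⟨fun i => ?_, fun m hm => hm.elim⟩
      obtain ⟨i | i⟩ := i
      · exact (link_stable_iff _ _ _ _).2 (h i).1
      · exact (link_stable_iff _ _ _ _).2 (h i).2
  let e : ∀ A : CommAlgCat.{u} R, (SpA A ⟶ X) → W4c1limliniiii.LGPoints R d r n f g A :=
    fun A x => ⟨V A (x ≫ io), (hiff A (x ≫ io)).1 ⟨x.left, rfl⟩⟩
  have he : ∀ A, Function.Bijective (e A) := fun A => by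
    constructor
    · intro x x' h
      have h1 : x ≫ io = x' ≫ io := (hb A).1 (funext fun i =>
        (pointsEquiv R d (d - r) A).injective (congrFun (congrArg Subtype.val h) i))
      exact Over.OverMorphism.ext ((cancel_mono (pullback.snd ι s.left)).1 (congrArg CommaMorphism.left h1))
    · rintro ⟨N, hN⟩
      obtain ⟨z, hz⟩ := (hb A).2 fun i => (pointsEquiv R d (d - r) A).symm (N i)
      have hVN : V A z = N := funext fun i => by
        show pointsEquiv R d (d - r) A (z ≫ p i) = N i
        rw [show z ≫ p i = _ from congrFun hz i, Equiv.apply_symm_apply]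
      obtain ⟨h, hh⟩ := (hiff A z).2 (hVN ▸ hN)
      let x : SpA A ⟶ X := Over.homMk h
        ((Category.assoc _ _ _).symm.trans ((congrArg (fun q => q ≫ P.hom) hh).trans (Over.w z)))
      refine ⟨x, Subtype.ext ?_⟩
      show V A (x ≫ io) = N
      rw [show x ≫ io = z from Over.OverMorphism.ext hh, hVN]
  refine ⟨X, fun A => Equiv.ofBijective (e A) (he A), fun A B φ x x' h i => ?_, hXP⟩
  exact hV A B φ (x ≫ io) (x' ≫ io) (by rw [Over.comp_left, Over.comp_left, h]; exact Category.assoc _ _ _) i

end Groth.Agent.LinkedGrass
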