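import Groth.Agent.LinkedGrass.Lift
import Groth.Agent.LinkedGrass.Rep
import Groth.Agent.GrassRep.Glue
import Groth.Agent.InfLift.LocalLift
import Groth.Agent.QuadSm.Affine

/-!
# The linked Grassmannian is smooth at exact points
-/

set_option autoImplicit false
set_option backward.isDefEq.respectTransparency false
set_option linter.style.haveILetI false

universe u

noncomputable section

open CategoryTheory AlgebraicGeometry TensorProduct

namespace Groth.Agent.LinkedGrass

open W4c1limliniiii GrassClosed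

variable {k : Type u} [Field k] {X : Over (Spec (CommRingCat.of k))}

theorem exists_residue_fac {K : Type u} [Field K] {X : Scheme.{u}} (w : Spec (CommRingCat.of K) ⟶ X) {pt : X}
    (hw : w (IsLocalRing.closedPoint K) = pt) :
    ∃ a, Spec.map a ≫ X.fromSpecResidueField pt = w := by
  subst hw
  exact ⟨_, Scheme.descResidueField_stalkClosedPointTo_fromSpecResidueField _ X w⟩

/-- Two field valued points at the image of a rational point agree. -/
theorem eq_of_closedPoint {K : Type u} [Field K] (x : Spec (CommRingCat.of k) ⟶ X.left) (hx : x ≫ X.hom = 𝟙 _)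
    (u v : Spec (CommRingCat.of K) ⟶ X.left) (hu : u (IsLocalRing.closedPoint K) = x (IsLocalRing.closedPoint k))
    (hv : v (IsLocalRing.closedPoint K) = x (IsLocalRing.closedPoint k)) (huv : u ≫ X.hom = v ≫ X.hom) : u = v := by
  obtain ⟨a, ha⟩ := exists_residue_fac u hu
  obtain ⟨b, hb⟩ := exists_residue_fac v hv
  obtain ⟨c, hc⟩ := exists_residue_fac x rfl
  set j := X.left.fromSpecResidueField (x (IsLocalRing.closedPoint k))
  obtain ⟨ι, hι⟩ := Spec.map_surjective (j ≫ X.hom)
  have hιc : ι ≫ c = 𝟙 _ := Spec.map_injective (by rw [Spec.map_comp, hι, ← Category.assoc, hc, hx, Spec.map_id])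
  have hcι : c ≫ ι = 𝟙 _ := by
    apply CommRingCat.hom_ext
    ext y
    apply c.hom.injective
    exact congrArg (fun q => q.hom (c.hom y)) hιc
  have h1 : ι ≫ a = ι ≫ b := Spec.map_injective (by
    rw [Spec.map_comp, Spec.map_comp, hι, ← Category.assoc, ← Category.assoc, ha, hb, huv])
  have : a = b := by
    rw [← Category.id_comp a, ← hcι, Category.assoc, h1, ← Category.assoc, hcι, Category.id_comp]
  rw [← ha, ← hb, this]

variable {d r n : ℕ} {f g : Fin n → ((Fin d → k) →ₗ[k] (Fin d → k))}
  (e : ∀ A : CommAlgCat.{u} k, (SpA A ⟶ X) ≃ LGPoints k d r n f g A)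
  (he : ∀ (A B : CommAlgCat.{u} k) (φ : A ⟶ B) (x : SpA A ⟶ X) (x' : SpA B ⟶ X),
    x'.left = Spec.map (CommRingCat.ofHom φ.hom.toRingHom) ≫ x.left →
      ∀ i, (e B x').1 i = Module.Grassmannian.map φ.hom ((e A x).1 i))

include he in
theorem e_comp {A B : CommAlgCat.{u} k} (φ : A →ₐ[k] B) (x : SpA A ⟶ X) (i : Fin (n + 1)) :
    (e B (GrassRep.ptAlg φ ≫ x)).1 i = Module.Grassmannian.map φ ((e A x).1 i) :=
  he A B (CommAlgCat.ofHom φ) x _ rfl i

include he in
theorem locallyOfFinitePresentation : LocallyOfFinitePresentation X.hom := by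
  obtain ⟨Y, eY, heY, hY⟩ := exists_linked d r n f g
  obtain ⟨c, hc⟩ := exists_hom_of_points (Y := Y) (X := X) (fun A z => (e A).symm (eY A z)) fun A B φ z z' h => by
    have h1 : (e B).symm (eY B z') = GrassRep.ptAlg φ.hom ≫ (e A).symm (eY A z) := by
      rw [Equiv.symm_apply_eq]
      refine Subtype.ext (funext fun i => ?_)
      rw [e_comp e he, Equiv.apply_symm_apply]
      exact heY A B φ z z' h i
    rw [h1]
    rfl
  haveI : IsIso c := QuadSm.isIso_of_points c fun A _ _ => by
    have : (fun z : QuadGrp.specOver k A ⟶ Y => z ≫ c) = ((eY (CommAlgCat.of k A)).trans (e (CommAlgCat.of k A)).symm :) :=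
      funext fun z => hc (CommAlgCat.of k A) z
    rw [this]
    exact Equiv.bijective _
  haveI : IsProper (inv c.left ≫ Y.hom) := inferInstance
  haveI : LocallyOfFiniteType X.hom := by
    rw [show X.hom = inv c.left ≫ Y.hom by rw [IsIso.eq_inv_comp]; exact Over.w c]
    infer_instance
  exact InfLift.lfp_of_lft X.hom

include he in
theorem formallySmooth_stalk (hrd : r < d) {s : k}
    (hI : ∀ i, (f i).comp (g i) = s • LinearMap.id ∧ (g i).comp (f i) = s • LinearMap.id)
    (hIII : ∀ i j : Fin n, i.val + 1 = j.val → LinearMap.range (f i) ⊓ LinearMap.ker (f j) = ⊥)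
    (x : SpA (CommAlgCat.of k k) ⟶ X)
    (hx : IsExact k d r n f g (CommAlgCat.of k k) (e (CommAlgCat.of k k) x).1) (pt : X.left)
    (hpt : pt ∈ Set.range x.left.base) : (X.hom.stalkMap pt).hom.FormallySmooth := by
  haveI := locallyOfFinitePresentation e he
  rw [← Scheme.Hom.mem_smoothLocus]
  have hx1 : x.left ≫ X.hom = 𝟙 _ := by
    refine (Over.w x).trans ?_
    show Spec.map (CommRingCat.ofHom (algebraMap k k)) = _
    rw [Algebra.algebraMap_self]
    exact Spec.map_id _
  obtain rfl : pt = x.left (IsLocalRing.closedPoint k) := by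
    obtain ⟨z, rfl⟩ := hpt
    haveI : Unique (PrimeSpectrum k) := inferInstance
    exact congrArg _ (Subsingleton.elim (α := PrimeSpectrum k) z _)
  refine InfLift.mem_smoothLocus_of_local_lift X.hom fun B' B _ _ _ _ π hπ _ α β hα comm => ?_
  let ψ := Spec.preimage β
  letI : Algebra k B' := ψ.hom.toAlgebra
  letI : Algebra k B := (π.comp ψ.hom).toAlgebra
  have hβ : Spec.map (CommRingCat.ofHom (algebraMap k B')) = β := Spec.map_preimage β
  let πa : B' →ₐ[k] B := ⟨π, fun _ => rfl⟩
  have hαw : α ≫ X.hom = Spec.map (CommRingCat.ofHom (algebraMap k B)) := by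
    rw [← comm, ← hβ, ← Spec.map_comp]
    rfl
  let a : SpA (CommAlgCat.of k B) ⟶ X := Over.homMk α hαw
  let K := IsLocalRing.ResidueField B
  let ρ : B →ₐ[k] K := IsScalarTower.toAlgHom k B K
  have hres : GrassRep.ptAlg (A := CommAlgCat.of k K) (B := CommAlgCat.of k B) ρ ≫ a =
      GrassRep.ptAlg (A := CommAlgCat.of k K) (B := CommAlgCat.of k k) (Algebra.ofId k K) ≫ x := by
    refine Over.OverMorphism.ext (eq_of_closedPoint x.left hx1 _ _ ?_ ?_ ?_)
    · show α (Spec.map (CommRingCat.ofHom ρ.toRingHom) (IsLocalRing.closedPoint K)) = _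
      rw [InfLift.closedPoint_specMap ρ.toRingHom IsLocalRing.residue_surjective]
      exact hα
    · exact congrArg x.left (Subsingleton.elim (α := PrimeSpectrum k) _ _)
    · exact (Over.w _).trans (Over.w _).symm
  have hresV : ∀ i, Module.Grassmannian.map ρ ((e (CommAlgCat.of k B) a).1 i) =
      Module.Grassmannian.map (Algebra.ofId k K) ((e (CommAlgCat.of k k) x).1 i) := fun i =>
    (e_comp e he (A := CommAlgCat.of k B) (B := CommAlgCat.of k K) ρ a i).symm.trans
      ((congrArg (fun q => (e (CommAlgCat.of k K) q).1 i) hres).trans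
        (e_comp e he (A := CommAlgCat.of k k) (B := CommAlgCat.of k K) (Algebra.ofId k K) x i))
  obtain ⟨V', hV', hmap⟩ := exists_lift f g hrd hI hIII (e (CommAlgCat.of k k) x).2 hx πa hπ ρ
    IsLocalRing.residue_surjective (e (CommAlgCat.of k B) a).2 hresV
  let c := (e (CommAlgCat.of k B')).symm ⟨V', hV'⟩
  refine ⟨c.left, ?_, (Over.w c).trans hβ⟩
  have h : GrassRep.ptAlg (A := CommAlgCat.of k B) (B := CommAlgCat.of k B') πa ≫ c = a := by
    apply (e (CommAlgCat.of k B)).injective
    refine Subtype.ext (funext fun i => ?_)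
    rw [e_comp e he, Equiv.apply_symm_apply]
    exact hmap i
  exact congrArg CommaMorphism.left h

end Groth.Agent.LinkedGrass
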