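import Groth.Agent.LinkedGrass.Minor
import Groth.Agent.LinkedGrass.Smooth
import Groth.Agent.LinkedGrass.Family

/-!
# Exact points of the linked Grassmannian from families of chains
-/

set_option autoImplicit false
set_option backward.isDefEq.respectTransparency false
set_option linter.style.haveILetI false

universe u

noncomputable section

open CategoryTheory AlgebraicGeometry TensorProduct Module

namespace Groth.Agent.LinkedGrass

open W4c1limliniiii GrassClosed

variable {k : Type u} [Field k] {X : Over (Spec (CommRingCat.of k))}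

/-- A rational point. -/
abbrev KPt (X : Over (Spec (CommRingCat.of k))) := SpA (CommAlgCat.of k k) ⟶ X

/-- The point underneath a rational point. -/
def KPt.base (x : KPt X) : X.left := x.left (IsLocalRing.closedPoint k)

theorem KPt.left_comp (x : KPt X) : x.left ≫ X.hom = 𝟙 _ := by
  refine (Over.w x).trans ?_
  show Spec.map (CommRingCat.ofHom (algebraMap k k)) = _
  rw [Algebra.algebraMap_self]
  exact Spec.map_id _

theorem KPt.range_eq (x : KPt X) : Set.range x.left.base = {x.base} := by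
  refine Set.eq_singleton_iff_unique_mem.mpr ⟨⟨_, rfl⟩, ?_⟩
  rintro _ ⟨z, rfl⟩
  exact congrArg x.left.base (Subsingleton.elim (α := PrimeSpectrum k) z _)

theorem KPt.ext {x y : KPt X} (h : x.base = y.base) : x = y :=
  Over.OverMorphism.ext (eq_of_closedPoint x.left x.left_comp _ _ rfl h.symm (x.left_comp.trans y.left_comp.symm))

variable {d r n : ℕ} {f g : Fin n → ((Fin d → k) →ₗ[k] (Fin d → k))}
  (e : ∀ A : CommAlgCat.{u} k, (SpA A ⟶ X) ≃ LGPoints k d r n f g A)

/-- The members of a rational point. -/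
def mem' (x : KPt X) : ℕ → Submodule k (k ⊗[k] (Fin d → k)) := extPt (e (CommAlgCat.of k k) x).1

/-- Exactness of a rational point. -/
def Ex (x : KPt X) : Prop := IsExact k d r n f g (CommAlgCat.of k k) (e (CommAlgCat.of k k) x).1

/-- The ranks of the forward maps at a rational point. -/
def vec (x : KPt X) (i : Fin n) : ℕ := finrank k ((mem' e x i).map (extMap f k i))

theorem ex_iff (x : KPt X) : Ex e x ↔ ∀ i < n,
    LinearMap.ker (extMap g k i) ⊓ mem' e x (i + 1) ≤ (mem' e x i).map (extMap f k i) ∧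
      LinearMap.ker (extMap f k i) ⊓ mem' e x i ≤ (mem' e x (i + 1)).map (extMap g k i) := by
  constructor
  · intro h i hi
    rw [mem', extPt_eq _ hi.le, extPt_eq _ (show i + 1 ≤ n from hi)]
    simp only [extMap, dif_pos hi]
    exact h ⟨i, hi⟩
  · intro h i
    have := h i.1 i.2
    rw [mem', extPt_eq _ i.2.le, extPt_eq _ (show i.1 + 1 ≤ n from i.2)] at this
    simp only [extMap, dif_pos i.2] at this
    exact this

theorem finrank_mem' (hrd : r < d) (x : KPt X) {l : ℕ} (hl : l ≤ n) : finrank k (mem' e x l) = r := by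
  rw [mem', extPt_eq _ hl]
  exact finrank_toSubmodule hrd.le _

variable (he : ∀ (A B : CommAlgCat.{u} k) (φ : A ⟶ B) (x : SpA A ⟶ X) (x' : SpA B ⟶ X),
    x'.left = Spec.map (CommRingCat.ofHom φ.hom.toRingHom) ≫ x.left →
      ∀ i, (e B x').1 i = Module.Grassmannian.map φ.hom ((e A x).1 i))

variable {A : Type u} [CommRing A] [Algebra k A]

/-- The value of a family at a rational point of the base. -/
abbrev evalPt (a : SpA (CommAlgCat.of k A) ⟶ X) (χ : A →ₐ[k] k) : KPt X :=
  GrassRep.ptAlg (A := CommAlgCat.of k k) (B := CommAlgCat.of k A) χ ≫ a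

include he in
theorem bcM_mem' (a : SpA (CommAlgCat.of k A) ⟶ X) (χ : A →ₐ[k] k) {l : ℕ} (hl : l ≤ n) {z : A ⊗[k] (Fin d → k)}
    (hz : z ∈ extPt (e (CommAlgCat.of k A) a).1 l) : bcM χ z ∈ mem' e (evalPt a χ) l := by
  rw [extPt_eq _ hl] at hz
  rw [mem', extPt_eq _ hl, e_comp e he]
  exact bcM_mem_map χ hz

theorem spanAt_eq (hrd : r < d) (x : KPt X) {l : ℕ} (hl : l ≤ n) (u : Fin r → ℕ → k ⊗[k] (Fin d → k))
    (hu : ∀ t, u t l ∈ mem' e x l) (hind : LinearIndependent k fun t => u t l) : mem' e x l = spanAt k u l := by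
  haveI : FiniteDimensional k (k ⊗[k] (Fin d → k)) :=
    Module.Finite.of_basis ((Pi.basisFun k (Fin d)).baseChange k)
  refine (Submodule.eq_of_le_of_finrank_eq (Submodule.span_le.mpr (by rintro _ ⟨t, rfl⟩; exact hu t)) ?_).symm
  rw [finrank_span_eq_card hind, Fintype.card_fin, finrank_mem' e hrd x hl]

include he in
theorem exists_chain_at (hrd : r < d) (a : SpA (CommAlgCat.of k A) ⟶ X) (v : Fin r → ℕ → A ⊗[k] (Fin d → k))
    {α β : Fin r → ℕ → A} (hv : IsChain (extMap f A) (extMap g A) n v α β) (M : ℕ → Matrix (Fin r) (Fin d) k)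
    (hmem : ∀ l ≤ n, ∀ t, v t l ∈ extPt (e (CommAlgCat.of k A) a).1 l) (χ : A →ₐ[k] k)
    (hχ : ∀ l ≤ n, χ (minor (M l) fun t => v t l) ≠ 0) :
    IsChain (extMap f k) (extMap g k) n (fun t l => bcM χ (v t l)) (fun t l => χ (α t l)) (fun t l => χ (β t l)) ∧
      ∀ l ≤ n, LinearIndependent k (fun t => bcM χ (v t l)) ∧
        mem' e (evalPt a χ) l = spanAt k (fun t l => bcM χ (v t l)) l := by
  refine ⟨hv.map χ (bcM χ) (bcM_extMap f χ) (bcM_extMap g χ) (bcM_smul χ), fun l hl => ?_⟩
  have hind : LinearIndependent k fun t => bcM χ (v t l) :=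
    linearIndependent_of_minor (M l) _ (by rw [minor_bcM]; exact isUnit_iff_ne_zero.mpr (hχ l hl))
  exact ⟨hind, spanAt_eq e hrd _ hl _ (fun t => bcM_mem' e he a χ hl (hmem l hl t)) hind⟩

theorem ex_and_vec (x : KPt X) (u : Fin r → ℕ → k ⊗[k] (Fin d → k)) {α β : Fin r → ℕ → k}
    (hu : IsChain (extMap f k) (extMap g k) n u α β) (hind : ∀ l ≤ n, LinearIndependent k fun t => u t l)
    (heq : ∀ l ≤ n, mem' e x l = spanAt k u l) :
    ((∀ t, ∀ i < n, α t i ≠ 0 ∨ β t i ≠ 0) → Ex e x) ∧
      ∀ i : Fin n, vec e x i = Nat.card {t // α t i ≠ 0} := by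
  classical
  refine ⟨fun hne => (ex_iff e x).mpr fun i hi => ?_, fun i => ?_⟩
  · rw [heq i hi.le, heq (i + 1) hi]
    exact ⟨hu.ker_le hi (hind i hi.le) fun t => hne t i hi, hu.ker_le' hi (hind _ hi) fun t => hne t i hi⟩
  · rw [vec, heq i i.2.le, hu.finrank_map i.2 (hind _ i.2), Nat.card_eq_fintype_card, Fintype.card_subtype]

end Groth.Agent.LinkedGrass
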