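import Groth.Agent.LinkedGrass.GenericExact
import Groth.Agent.LinkedGrass.FibreHyp
import Groth.Agent.UnibranchEtale.Components

/-!
# The linked Grassmannian over a domain: components dominate, and irreducibility
-/

set_option autoImplicit false
set_option backward.isDefEq.respectTransparency false
set_option linter.style.haveILetI false

universe u

noncomputable section

open CategoryTheory AlgebraicGeometry TensorProduct Module

namespace Groth.Agent.LinkedGrass

open W4c1limliniiii GrassClosed

variable {k : Type u} [CommRing k] [IsDomain k] {d r n : ℕ}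
  {X : Over (Spec (CommRingCat.of k))} {f g : Fin n → ((Fin d → k) →ₗ[k] (Fin d → k))}
  (e : ∀ A : CommAlgCat.{u} k, (SpA A ⟶ X) ≃ LGPoints k d r n f g A)
  (he : ∀ (A B : CommAlgCat.{u} k) (φ : A ⟶ B) (x : SpA A ⟶ X) (x' : SpA B ⟶ X),
    x'.left = Spec.map (CommRingCat.ofHom φ.hom.toRingHom) ≫ x.left →
      ∀ i, (e B x').1 i = Module.Grassmannian.map φ.hom ((e A x).1 i))

/-- The field of all coordinates of `r` vectors. -/
abbrev GenFld (k : Type u) [CommRing k] (r d : ℕ) : Type u := FractionRing (MvPolynomial (Fin r × Fin d) k)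

/-- The generic vectors. -/
def genVec (t : Fin r) : GenFld k r d ⊗[k] (Fin d → k) :=
  bcM (IsScalarTower.toAlgHom k (MvPolynomial (Fin r × Fin d) k) (GenFld k r d))
    (∑ j, (MvPolynomial.X (t, j) : MvPolynomial (Fin r × Fin d) k) •
      (Pi.basisFun k (Fin d)).baseChange (MvPolynomial (Fin r × Fin d) k) j)

/-- The chains of the generic vectors. -/
def genPath (f g : Fin n → ((Fin d → k) →ₗ[k] (Fin d → k))) (J : Fin r → ℕ) (t : Fin r) (l : ℕ) :
    GenFld k r d ⊗[k] (Fin d → k) :=
  path (extMap f (GenFld k r d)) (extMap g (GenFld k r d)) (J t) l (genVec t)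

include he in
set_option maxHeartbeats 1600000 in
theorem exists_generic_chart (hrd : r < d) {s : k}
    (hI : ∀ i, (f i).comp (g i) = s • LinearMap.id ∧ (g i).comp (f i) = s • LinearMap.id)
    {K : Type u} [Field K] [Algebra k K] (y : SpA (CommAlgCat.of k K) ⟶ X) (hy : IsGenericPt y)
    (J : Fin r → ℕ) (hJ : ∀ t, J t ≤ n) (c : Fin r → K ⊗[k] (Fin d → k)) (hc : ∀ t, c t ∈ memF e y (J t))
    (hind : ∀ l ≤ n, LinearIndependent K fun t => path (extMap f K) (extMap g K) (J t) l (c t)) :
    Function.Injective (algebraMap k K) ∧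
      ∃ w : SpA (CommAlgCat.of k (GenFld k r d)) ⟶ X,
        w.left (IsLocalRing.closedPoint (GenFld k r d)) = y.left (IsLocalRing.closedPoint K) ∧
        ∀ l ≤ n, memF e w l = spanAt (GenFld k r d) (genPath f g J) l := by
  classical
  haveI : FiniteDimensional K (K ⊗[k] (Fin d → k)) :=
    Module.Finite.of_basis ((Pi.basisFun k (Fin d)).baseChange K)
  have hfg : ∀ (R : Type u) [CommRing R] [Algebra k R], ∀ i < n, ∀ z,
      extMap f R i (extMap g R i z) = algebraMap k R s • z := fun R => extMap_comp f g (fun i => (hI i).1) R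
  have hgf : ∀ (R : Type u) [CommRing R] [Algebra k R], ∀ i < n, ∀ z,
      extMap g R i (extMap f R i z) = algebraMap k R s • z := fun R => extMap_comp g f (fun i => (hI i).2) R
  have hsel : ∀ l, ∃ M : Matrix (Fin r) (Fin d) k, l ≤ n →
      IsUnit (minor M fun t => path (extMap f K) (extMap g K) (J t) l (c t)) := fun l =>
    if h : l ≤ n then (exists_sel (k := k) (hind l h)).elim fun R hR => ⟨sel R, fun _ => hR.2⟩
    else ⟨0, fun h' => absurd h' h⟩
  choose M hM using hsel
  let P := MvPolynomial (Fin r × Fin d) k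
  let cu : Fin r → P ⊗[k] (Fin d → k) := fun t =>
    ∑ j, (MvPolynomial.X (t, j) : P) • (Pi.basisFun k (Fin d)).baseChange P j
  let ev : P →ₐ[k] K := MvPolynomial.aeval fun p => ((Pi.basisFun k (Fin d)).baseChange K).repr (c p.1) p.2
  have hevc : ∀ t, bcM ev (cu t) = c t := fun t => by
    apply ((Pi.basisFun k (Fin d)).baseChange K).ext_elem
    intro j
    rw [repr_bcM, show ((Pi.basisFun k (Fin d)).baseChange P).repr (cu t) j = MvPolynomial.X (t, j) from
      congrFun (((Pi.basisFun k (Fin d)).baseChange P).repr_sum_self fun j => MvPolynomial.X (t, j)) j]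
    exact MvPolynomial.aeval_X _ _
  obtain ⟨h, hdvd, hh0⟩ : ∃ h : P, (∀ l ≤ n, (minor (M l) fun t => path (extMap f P) (extMap g P) (J t) l (cu t)) ∣ h) ∧
      ev h ≠ 0 := by
    refine ⟨∏ l ∈ Finset.range (n + 1), minor (M l) fun t => path (extMap f P) (extMap g P) (J t) l (cu t),
      fun l hl => Finset.dvd_prod_of_mem
        (fun l => minor (M l) fun t => path (extMap f P) (extMap g P) (J t) l (cu t))
        (Finset.mem_range.mpr (Nat.lt_succ_of_le hl)), ?_⟩
    rw [map_prod, Finset.prod_ne_zero_iff]
    intro l hl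
    rw [← minor_bcM]
    simp only [path_intertwine (bcM ev) (bcM_extMap f _) (bcM_extMap g _), hevc]
    exact (hM l (Nat.lt_succ_iff.mp (Finset.mem_range.mp hl))).ne_zero
  have hh : h ≠ 0 := fun h' => hh0 (by rw [h', map_zero])
  let Ph := Localization.Away h
  let ι := IsScalarTower.toAlgHom k P Ph
  have hhu : IsUnit (ι h) := IsLocalization.Away.algebraMap_isUnit h
  have hunit : ∀ l ≤ n, IsUnit (minor (M l) fun t => path (extMap f Ph) (extMap g Ph) (J t) l (bcM ι (cu t))) := by
    intro l hl
    simp only [← path_intertwine (bcM ι) (bcM_extMap f _) (bcM_extMap g _), minor_bcM]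
    exact isUnit_of_dvd_unit (map_dvd ι (hdvd l hl)) hhu
  obtain ⟨b, hb⟩ := exists_family e _ (isChain_path (hfg Ph) (hgf Ph) J fun t => bcM ι (cu t)) M hunit
  let θ : Ph →ₐ[k] K := IsLocalization.liftAlgHom (M := Submonoid.powers h) (f := ev) fun q => by
    obtain ⟨_, m, rfl⟩ := q
    rw [map_pow]
    exact (isUnit_iff_ne_zero.mpr hh0).pow m
  have hθ : θ.comp ι = ev := AlgHom.ext fun q => IsLocalization.lift_eq _ q
  have hθy : GrassRep.ptAlg (A := CommAlgCat.of k K) (B := CommAlgCat.of k Ph) θ ≫ b = y := by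
    apply (e (CommAlgCat.of k K)).injective
    refine Subtype.ext (funext fun i => Grassmannian.ext ?_)
    have hi := Nat.lt_succ_iff.mp i.2
    have h1 := memF_eq_spanAt e hrd y hi (fun t l => path (extMap f K) (extMap g K) (J t) l (c t))
      (fun t => path_mem (extMap_mem f g (e (CommAlgCat.of k K) y).2).1 (extMap_mem f g (e (CommAlgCat.of k K) y).2).2
        (hJ t) hi (hc t)) (hind i hi)
    have h2 := memF_eq_spanAt e hrd (GrassRep.ptAlg (A := CommAlgCat.of k K) (B := CommAlgCat.of k Ph) θ ≫ b) hi
      (fun t l => path (extMap f K) (extMap g K) (J t) l (c t))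
      (fun t => by
        have := bcM_mem_comp e he θ b hi (hb i hi t)
        rw [path_intertwine (bcM θ) (bcM_extMap f _) (bcM_extMap g _), bcM_comp, hθ, hevc] at this
        exact this) (hind i hi)
    rw [memF, extPt_eq _ hi] at h1 h2
    exact h2.trans h1.symm
  let lP : P →ₐ[k] GenFld k r d := IsScalarTower.toAlgHom k P (GenFld k r d)
  have hlP : Function.Injective lP := IsFractionRing.injective P (GenFld k r d)
  let l : Ph →ₐ[k] GenFld k r d := IsLocalization.liftAlgHom (M := Submonoid.powers h) (f := lP) fun q => by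
    obtain ⟨_, m, rfl⟩ := q
    rw [map_pow]
    exact (isUnit_iff_ne_zero.mpr ((map_ne_zero_iff _ hlP).mpr hh)).pow m
  have hl : l.comp ι = lP := AlgHom.ext fun q => IsLocalization.lift_eq _ q
  have hlinj : Function.Injective l := by
    refine (IsLocalization.lift_injective_iff (M := Submonoid.powers h) (S := Ph) _).mpr fun a b => ?_
    have hinj : Function.Injective (algebraMap P Ph) :=
      IsLocalization.injective Ph (powers_le_nonZeroDivisors_of_noZeroDivisors hh)
    exact ⟨fun hab => congrArg lP (hinj hab), fun hab => congrArg (algebraMap P Ph) (hlP hab)⟩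
  obtain ⟨j, hj⟩ := hy.exists_hom b θ hθy l hlinj
  refine ⟨fun a a' haa => ?_, GrassRep.ptAlg (A := CommAlgCat.of k (GenFld k r d)) (B := CommAlgCat.of k K) j ≫ y, ?_,
    fun q hq => ?_⟩
  · have h1 : algebraMap k (GenFld k r d) a = algebraMap k (GenFld k r d) a' := by
      rw [← j.commutes, ← j.commutes, haa]
    rw [IsScalarTower.algebraMap_apply k P, IsScalarTower.algebraMap_apply k P (GenFld k r d) a'] at h1
    exact MvPolynomial.C_injective _ _ (hlP h1)
  · show y.left (PrimeSpectrum.comap j.toRingHom (IsLocalRing.closedPoint (GenFld k r d))) = _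
    exact congrArg y.left (Subsingleton.elim (α := PrimeSpectrum K) _ _)
  · have hmem : ∀ t, genPath f g J t q ∈
        memF e (GrassRep.ptAlg (A := CommAlgCat.of k (GenFld k r d)) (B := CommAlgCat.of k K) j ≫ y) q := fun t => by
      have h3 := bcM_mem_comp e he l b hq (hb q hq t)
      rw [hj, path_intertwine (bcM l) (bcM_extMap f _) (bcM_extMap g _), bcM_comp, hl] at h3
      exact h3
    refine memF_eq_spanAt e hrd _ hq _ hmem (linearIndependent_of_minor (M q) _ ?_)
    have := (hunit q hq).map l
    rwa [← minor_bcM, show (fun t => bcM l (path (extMap f Ph) (extMap g Ph) (J t) q (bcM ι (cu t)))) =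
        fun t => genPath f g J t q from funext fun t => by
      rw [path_intertwine (bcM l) (bcM_extMap f _) (bcM_extMap g _), bcM_comp, hl]; rfl] at this

omit [IsDomain k] in
theorem isGenericPt_residue {η : X.left} (hmax : ∀ z : X.left, z ⤳ η → z = η) :
    ∃ (K : Type u) (_ : Field K) (_ : Algebra k K) (y : SpA (CommAlgCat.of k K) ⟶ X),
      y.left (IsLocalRing.closedPoint K) = η ∧ IsGenericPt y := by
  letI : Algebra k (X.left.residueField η) :=
    (Spec.preimage (X.left.fromSpecResidueField η ≫ X.hom)).hom.toAlgebra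
  let y : SpA (CommAlgCat.of k (X.left.residueField η)) ⟶ X :=
    Over.homMk (X.left.fromSpecResidueField η) (Spec.map_preimage (X.left.fromSpecResidueField η ≫ X.hom)).symm
  refine ⟨X.left.residueField η, inferInstance, inferInstance, y, Scheme.fromSpecResidueField_apply η _, ?_⟩
  intro L _ _ w hw
  rw [show y.left (IsLocalRing.closedPoint (X.left.residueField η)) = η from
    Scheme.fromSpecResidueField_apply η _] at hw
  obtain ⟨a, ha⟩ := exists_residue_fac w.left (hmax _ hw)
  obtain ⟨φ, hφ⟩ := exists_algHom y w (Spec.map a) ha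
  exact ⟨φ.hom, Over.OverMorphism.ext (ha.symm.trans (congrArg (fun q => q ≫ y.left) hφ.symm))⟩

omit [IsDomain k] in
include he in
theorem isProper_hom : IsProper X.hom := by
  obtain ⟨Y, eY, heY, hY⟩ := exists_linked d r n f g
  obtain ⟨c, hc⟩ := exists_hom_of_points (Y := Y) (X := X) (fun A z => (e A).symm (eY A z)) fun A B φ z z' h => by
    have h1 : (e B).symm (eY B z') = GrassRep.ptAlg φ.hom ≫ (e A).symm (eY A z) := by
      rw [Equiv.symm_apply_eq]
      refine Subtype.ext (funext fun i => ?_)
      rw [e_natural e he, Equiv.apply_symm_apply]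
      exact heY A B φ z z' h i
    rw [h1]
    rfl
  haveI : IsIso c := QuadSm.isIso_of_points c fun A _ _ => by
    have : (fun z : QuadGrp.specOver k A ⟶ Y => z ≫ c) = ((eY (CommAlgCat.of k A)).trans (e (CommAlgCat.of k A)).symm :) :=
      funext fun z => hc (CommAlgCat.of k A) z
    rw [this]
    exact Equiv.bijective _
  haveI : IsProper (inv c.left ≫ Y.hom) := inferInstance
  rw [show X.hom = inv c.left ≫ Y.hom by rw [IsIso.eq_inv_comp]; exact Over.w c]
  infer_instance

/-- The fibre conditions. -/
def FibreCond (f g : Fin n → ((Fin d → k) →ₗ[k] (Fin d → k))) : Prop :=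
  (∀ (P : Ideal k) [P.IsPrime], ∀ i, d ≤ finrank P.ResidueField (LinearMap.range ((f i).baseChange P.ResidueField)) +
    finrank P.ResidueField (LinearMap.range ((g i).baseChange P.ResidueField))) ∧
  ∀ (P : Ideal k) [P.IsPrime], ∀ i j : Fin n, i.val + 1 = j.val →
    LinearMap.range ((f i).baseChange P.ResidueField) ⊓ LinearMap.ker ((f j).baseChange P.ResidueField) = ⊥

omit [IsDomain k] in
include he in
theorem exF_of_fibreCond (hrd : r < d) {s : k}
    (hI : ∀ i, (f i).comp (g i) = s • LinearMap.id ∧ (g i).comp (f i) = s • LinearMap.id) (hfib : FibreCond f g)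
    {K : Type u} [Field K] [Algebra k K] (y : SpA (CommAlgCat.of k K) ⟶ X) (hy : IsGenericPt y) :
    ExF e y ∧ ∀ i, i + 1 < n → ∀ z, extMap f K (i + 1) (extMap f K i z) = 0 → extMap f K i z = 0 := by
  let P := RingHom.ker (algebraMap k K)
  haveI : P.IsPrime := RingHom.ker_isPrime _
  let φ : P.ResidueField →+* K := Ideal.ResidueField.lift P (algebraMap k K) le_rfl (fun x hx =>
    isUnit_iff_ne_zero.mpr fun h0 => hx h0)
  letI : Algebra P.ResidueField K := φ.toAlgebra
  haveI : IsScalarTower k P.ResidueField K := IsScalarTower.of_algebraMap_eq fun a =>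
    (Ideal.ResidueField.lift_algebraMap P (algebraMap k K) _ _ a).symm
  have hzero : ∀ (F G : Fin n → ((Fin d → k) →ₗ[k] (Fin d → k))), (∀ i, (F i).comp (G i) = s • LinearMap.id) →
      algebraMap k K s = 0 → ∀ i z, (F i).baseChange P.ResidueField ((G i).baseChange P.ResidueField z) = 0 := by
    intro F G hFG h i z
    have h0 : algebraMap k P.ResidueField s = 0 := by
      apply φ.injective
      rw [map_zero]
      exact (Ideal.ResidueField.lift_algebraMap P (algebraMap k K) _ _ s).trans h
    have := extMap_comp F G hFG P.ResidueField i i.2 z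
    rw [extMap_val, extMap_val, h0, zero_smul] at this
    exact this
  have h3 : ∀ i, i + 1 < n → ∀ z, extMap f K (i + 1) (extMap f K i z) = 0 → extMap f K i z = 0 := fun i hi z hz => by
    simp only [extMap, dif_pos (show i < n by omega), dif_pos hi] at hz ⊢
    exact eq_zero_field (hfib.2 P ⟨i, by omega⟩ ⟨i + 1, hi⟩ rfl) z hz
  refine ⟨exF_of_isGenericPt e he hrd hI (y := y) (hy := hy) ?_ ?_ h3, h3⟩
  · intro h i hi z hz
    simp only [extMap, dif_pos hi] at hz ⊢
    exact exists_pre_field (ker_le_range_field (hzero f g (fun i => (hI i).1) h ⟨i, hi⟩)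
      (by have := hfib.1 P ⟨i, hi⟩; omega)) z hz
  · intro h i hi z hz
    simp only [extMap, dif_pos hi] at hz ⊢
    exact exists_pre_field (ker_le_range_field (hzero g f (fun i => (hI i).2) h ⟨i, hi⟩) (hfib.1 P ⟨i, hi⟩)) z hz

include he in
theorem algebraMap_injective_of_isGenericPt (hrd : r < d) {s : k}
    (hI : ∀ i, (f i).comp (g i) = s • LinearMap.id ∧ (g i).comp (f i) = s • LinearMap.id) (hfib : FibreCond f g)
    {K : Type u} [Field K] [Algebra k K] (y : SpA (CommAlgCat.of k K) ⟶ X) (hy : IsGenericPt y) :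
    Function.Injective (algebraMap k K) := by
  haveI : FiniteDimensional K (K ⊗[k] (Fin d → k)) :=
    Module.Finite.of_basis ((Pi.basisFun k (Fin d)).baseChange K)
  obtain ⟨hex, hIIIK⟩ := exF_of_fibreCond e he hrd hI hfib y hy
  obtain ⟨J, c, hc, hind⟩ := exists_generators (F := extMap f K) (G := extMap g K) (memF e y)
    (fun i hi => finrank_memF e hrd y hi) (extMap_comp f g (fun i => (hI i).1) K)
    (extMap_comp g f (fun i => (hI i).2) K) hIIIK
    (extMap_mem f g (e (CommAlgCat.of k K) y).2).1 (extMap_mem f g (e (CommAlgCat.of k K) y).2).2 hex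
  exact (exists_generic_chart e he hrd hI y hy J (fun t => (hc t).1) c (fun t => (hc t).2) hind).1

include he in
theorem surjective_component (hrd : r < d) {s : k}
    (hI : ∀ i, (f i).comp (g i) = s • LinearMap.id ∧ (g i).comp (f i) = s • LinearMap.id) (hfib : FibreCond f g)
    {Z : Set X.left} (hZ : Z ∈ irreducibleComponents X.left) : X.hom.base '' Z = Set.univ := by
  haveI := isProper_hom e he
  obtain ⟨η, hη, hmax⟩ := UnibranchEtale.exists_generic hZ
  obtain ⟨K, _, _, y, hyη, hy⟩ := isGenericPt_residue hmax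
  have hinj := algebraMap_injective_of_isGenericPt e he hrd hI hfib y hy
  have hgen : X.hom η = (⟨⊥, Ideal.isPrime_bot⟩ : PrimeSpectrum k) := by
    rw [← hyη, ← Scheme.Hom.comp_apply, show y.left ≫ X.hom = _ from Over.w y]
    refine PrimeSpectrum.ext ?_
    show Ideal.comap (algebraMap k K) (IsLocalRing.maximalIdeal K) = ⊥
    rw [IsLocalRing.maximalIdeal_eq_bot, Ideal.comap_bot_of_injective _ hinj]
  have hcl : IsClosed (X.hom.base '' Z) := X.hom.isClosedMap _ (isClosed_of_mem_irreducibleComponents Z hZ)
  rw [Set.eq_univ_iff_forall]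
  intro p
  refine hcl.closure_subset_iff.mpr (Set.singleton_subset_iff.mpr ⟨η, hη.mem, hgen⟩) ?_
  exact ((PrimeSpectrum.le_iff_specializes ⟨⊥, Ideal.isPrime_bot⟩ p).mp bot_le).mem_closure

theorem indep_path_zero {K : Type*} [Field K] {E : Type*} [AddCommGroup E] [Module K E] {F G : ℕ → E →ₗ[K] E}
    {s : K} (hs : s ≠ 0) (hgf : ∀ i < n, ∀ x, G i (F i x) = s • x) {ι : Type*} {c : ι → E}
    (hc : LinearIndependent K c) : ∀ l ≤ n, LinearIndependent K fun t => path F G 0 l (c t) := by
  intro l
  induction l with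
  | zero => intro _; simpa only [path_self, LinearMap.id_apply] using hc
  | succ l ih =>
    intro hl
    have hinj : LinearMap.ker (F l) = ⊥ := LinearMap.ker_eq_bot'.mpr fun x hx => by
      have := hgf l hl x
      rw [hx, map_zero] at this
      exact (smul_eq_zero.mp this.symm).resolve_left hs
    have := (ih (Nat.le_of_succ_le hl)).map' (F l) hinj
    simpa only [Function.comp_def, F_path_of_le F G (Nat.zero_le l)] using this

include he in
theorem irreducibleSpace (hrd : r < d) {s : k}
    (hI : ∀ i, (f i).comp (g i) = s • LinearMap.id ∧ (g i).comp (f i) = s • LinearMap.id) (hfib : FibreCond f g)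
    (hs : s ≠ 0) : IrreducibleSpace X.left := by
  classical
  let L := GenFld k r d
  have hsL : algebraMap k L s ≠ 0 := by
    rw [IsScalarTower.algebraMap_apply k (MvPolynomial (Fin r × Fin d) k) L]
    exact (map_ne_zero_iff _ (IsFractionRing.injective _ L)).mpr
      ((map_ne_zero_iff _ (MvPolynomial.C_injective _ _)).mpr hs)
  have key : ∀ η : X.left, (∀ z, z ⤳ η → z = η) → ∃ w : SpA (CommAlgCat.of k L) ⟶ X,
      w.left (IsLocalRing.closedPoint L) = η ∧ ∀ l ≤ n, memF e w l = spanAt L (genPath f g fun _ => 0) l := by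
    intro η hmax
    obtain ⟨K, _, _, y, rfl, hy⟩ := isGenericPt_residue hmax
    haveI : FiniteDimensional K (K ⊗[k] (Fin d → k)) :=
      Module.Finite.of_basis ((Pi.basisFun k (Fin d)).baseChange K)
    have hinj := algebraMap_injective_of_isGenericPt e he hrd hI hfib y hy
    obtain ⟨R, b, -, hspan, hb⟩ := exists_echelon (memF e y 0) (finrank_memF e hrd y (Nat.zero_le n))
    have hbi : LinearIndependent K b := Fintype.linearIndependent_iff.mpr fun a ha t => by
      have := congrArg (fun z => ((Pi.basisFun k (Fin d)).baseChange K).repr z (R t)) ha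
      simpa [Finsupp.coe_finset_sum, Finset.sum_apply, hb] using this
    exact (exists_generic_chart e he hrd hI y hy (fun _ => 0) (fun _ => Nat.zero_le n) b
      (fun t => by rw [hspan]; exact Submodule.subset_span ⟨t, rfl⟩)
      (indep_path_zero ((map_ne_zero_iff _ hinj).mpr hs) (extMap_comp g f (fun i => (hI i).2) K) hbi)).2
  haveI : Nonempty X.left := by
    have hc := indep_path_zero (F := extMap f L) (G := extMap g L) hsL (extMap_comp g f (fun i => (hI i).2) L)
      (c := fun t : Fin r => (Pi.basisFun k (Fin d)).baseChange L (Fin.castLE hrd.le t))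
      ((((Pi.basisFun k (Fin d)).baseChange L).linearIndependent).comp _ (Fin.castLE_injective _))
    have hsel : ∀ l, ∃ M : Matrix (Fin r) (Fin d) k, l ≤ n → IsUnit (minor M fun t =>
        path (extMap f L) (extMap g L) 0 l ((Pi.basisFun k (Fin d)).baseChange L (Fin.castLE hrd.le t))) := fun l =>
      if h : l ≤ n then (exists_sel (k := k) (hc l h)).elim fun R hR => ⟨sel R, fun _ => hR.2⟩
      else ⟨0, fun h' => absurd h' h⟩
    choose M hM using hsel
    obtain ⟨a, -⟩ := exists_family e _ (isChain_path (extMap_comp f g (fun i => (hI i).1) L)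
      (extMap_comp g f (fun i => (hI i).2) L) (fun _ : Fin r => 0) _) M hM
    exact ⟨a.left (IsLocalRing.closedPoint L)⟩
  have huniq : ∀ Z ∈ irreducibleComponents X.left, ∀ Z' ∈ irreducibleComponents X.left, Z = Z' := by
    intro Z hZ Z' hZ'
    obtain ⟨a, ha, hma⟩ := UnibranchEtale.exists_generic hZ
    obtain ⟨b, hb, hmb⟩ := UnibranchEtale.exists_generic hZ'
    obtain ⟨w, hw, hwm⟩ := key a hma
    obtain ⟨w', hw', hwm'⟩ := key b hmb
    have : w = w' := by
      apply (e (CommAlgCat.of k L)).injective
      refine Subtype.ext (funext fun i => Grassmannian.ext ?_)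
      have hi := Nat.lt_succ_iff.mp i.2
      have h1 := hwm i hi
      have h2 := hwm' i hi
      rw [memF, extPt_eq _ hi] at h1 h2
      exact h1.trans h2.symm
    rw [← ha.def, ← hb.def, ← hw, ← hw', this]
  obtain ⟨x⟩ := (inferInstance : Nonempty X.left)
  have huniv : irreducibleComponent x = Set.univ := Set.eq_univ_of_forall fun z => by
    rw [huniq _ (irreducibleComponent_mem_irreducibleComponents x) _ (irreducibleComponent_mem_irreducibleComponents z)]
    exact mem_irreducibleComponent
  refine (irreducibleSpace_def X.left).2 ?_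
  show IsIrreducible (Set.univ : Set X.left)
  rw [← huniv]
  exact isIrreducible_irreducibleComponent

end Groth.Agent.LinkedGrass
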